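import Groth.Agent.ProjCoh.SchSys
import Groth.Agent.QCohLib.Exact
import Groth.Agent.QCohLib.Coherent
import Groth.Prelude.Def_Formal

/-!
# The quotients `M / I^n M` on affine opens
-/

set_option autoImplicit false

universe u

open CategoryTheory CategoryTheory.Limits AlgebraicGeometry TopologicalSpace Opposite
open Groth.Agent.CohBase Groth.Agent.ProjCoh

noncomputable section

namespace Groth.Agent.FormalLib

section Coker

variable {X : Scheme.{u}} {M N : X.Modules} (φ : M ⟶ N)

/-- Cokernels of maps of quasi-coherent modules on affine opens. -/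
theorem cokernel_app (hM : Coh.IsQCoh M) (hN : Coh.IsQCoh N) {U : X.Opens} (hU : IsAffineOpen U) :
    Function.Surjective ((cokernel.π φ).app U) ∧
      ∀ s, (cokernel.π φ).app U s = 0 → ∃ t, φ.app U t = s := by
  let S₁ : ShortComplex X.Modules :=
    ShortComplex.mk (kernel.ι φ) (cokernel.π (kernel.ι φ)) (cokernel.condition _)
  have hS₁ : S₁.ShortExact := ShortComplex.ShortExact.mk'
    (ShortComplex.exact_of_g_is_cokernel _ (cokernelIsCokernel _)) inferInstance inferInstance
  let S₂ : ShortComplex X.Modules :=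
    ShortComplex.mk (Abelian.image.ι φ) (cokernel.π φ) (kernel.condition _)
  have hS₂ : S₂.ShortExact := ShortComplex.ShortExact.mk'
    (ShortComplex.exact_of_f_is_kernel _ (kernelIsKernel _)) inferInstance inferInstance
  have hk := (QCohLib.isQCoh_image φ hM hN).1
  have hi : Coh.IsQCoh (Abelian.image φ) := (SheafOfModules.isQuasicoherent X.ringCatSheaf).prop_of_iso
    (Abelian.coimageIsoImage φ) (QCohLib.isQCoh_X₃ hS₁ hk hM)
  refine ⟨QCohLib.app_surjective hS₂ hi hU, fun s hs => ?_⟩
  obtain ⟨r, hr⟩ := QCohLib.app_exact hS₂ U s hs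
  obtain ⟨r', hr'⟩ : ∃ r', (Abelian.coimageIsoImage φ).hom.app U r' = r :=
    ⟨(Abelian.coimageIsoImage φ).inv.app U r,
      congr($((Abelian.coimageIsoImage φ).inv_hom_id).app U r)⟩
  obtain ⟨t, rfl⟩ := QCohLib.app_surjective hS₁ hk hU r'
  refine ⟨t, ?_⟩
  rw [← hr, ← hr']
  exact congr($(show φ = cokernel.π (kernel.ι φ) ≫ (Abelian.coimageIsoImage φ).hom ≫ Abelian.image.ι φ from
    (Abelian.coimage_image_factorisation φ).symm).app U t)

end Coker

variable {A : Type u} [CommRing A] {X : Scheme.{u}} [X.Over (Spec (CommRingCat.of A))]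

variable (A X) in
/-- The constants. -/
abbrev cst : A →+* Γ(X, ⊤) := Coh.toGlobal (X ↘ Spec (CommRingCat.of A))

lemma smulMod_app (M : X.Modules) (a : A) {U : X.Opens} (s : Γ(M, U)) :
    (Formal.smulMod A M a).app U s = φV (cst A X) U a • s := rfl

lemma smulMod_natural {M N : X.Modules} (f : M ⟶ N) (a : A) :
    Formal.smulMod A M a ≫ f = f ≫ Formal.smulMod A N a := by
  refine Scheme.Modules.hom_ext _ _ fun U => AddCommGrpCat.hom_ext (AddMonoidHom.ext fun s => ?_)
  show f.app U (φV (cst A X) U a • s) = φV (cst A X) U a • f.app U s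
  exact Scheme.Modules.Hom.app_smul f _ s

lemma secMap_apply {M N : X.Modules} (f : M ⟶ N) {U : X.Opens} (s : Sec (cst A X) M U) :
    secMap (cst A X) f U s = f.app U s := rfl

/-- Iterated quotients by finitely many constants. -/
theorem exists_quot (L : Finset A) (M : X.Modules) (hM : Coh.IsQCoh M) :
    ∃ (Q : X.Modules) (q : M ⟶ Q), Coh.IsQCoh Q ∧ Epi q ∧ (∀ a ∈ L, Formal.smulMod A M a ≫ q = 0) ∧
      (∀ (T : X.Modules) (t : M ⟶ T), (∀ a ∈ L, Formal.smulMod A M a ≫ t = 0) → ∃ l, q ≫ l = t) ∧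
        ∀ U : X.Opens, IsAffineOpen U → Function.Surjective (secMap (cst A X) q U) ∧
          LinearMap.ker (secMap (cst A X) q U) = Ideal.span (L : Set A) • ⊤ := by
  classical
  induction L using Finset.induction_on with
  | empty =>
    refine ⟨M, 𝟙 M, hM, inferInstance, fun a ha => absurd ha (Finset.notMem_empty a),
      fun T t _ => ⟨t, Category.id_comp t⟩, fun U _ => ⟨fun s => ⟨s, rfl⟩, ?_⟩⟩
    rw [Finset.coe_empty, Ideal.span_empty, Submodule.bot_smul]
    exact LinearMap.ker_eq_bot.2 fun a b h => h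
  | insert b L hb ih =>
    obtain ⟨Q, q, hQ, hq, hkill, huniv, hsec⟩ := ih
    let ψ := Formal.smulMod A Q b
    refine ⟨cokernel ψ, q ≫ cokernel.π ψ, (QCohLib.isQCoh_image ψ hQ hQ).2, inferInstance,
      fun a ha => ?_, fun T t ht => ?_, fun U hU => ?_⟩
    · rw [← Category.assoc]
      rcases Finset.mem_insert.1 ha with rfl | ha
      · rw [smulMod_natural, Category.assoc, cokernel.condition, comp_zero]
      · rw [hkill a ha, zero_comp]
    · obtain ⟨l, hl⟩ := huniv T t fun a ha => ht a (Finset.mem_insert_of_mem ha)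
      have h0 : ψ ≫ l = 0 := by
        rw [← cancel_epi q, ← Category.assoc, ← smulMod_natural, Category.assoc, hl,
          ht b (Finset.mem_insert_self b L), comp_zero]
      exact ⟨cokernel.desc ψ l h0, by rw [Category.assoc, cokernel.π_desc, hl]⟩
    · obtain ⟨hs, hk⟩ := hsec U hU
      obtain ⟨hcs, hck⟩ := cokernel_app ψ hQ hQ hU
      refine ⟨hcs.comp hs, ?_⟩
      rw [Finset.coe_insert, Ideal.span_insert, Submodule.sup_smul, ← hk]
      refine le_antisymm (fun s hs0 => ?_) (sup_le ?_ fun s hs0 => ?_)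
      · obtain ⟨t, ht⟩ := hck (q.app U s) hs0
        obtain ⟨y, rfl⟩ := hs t
        refine Submodule.mem_sup.2 ⟨b • y, Submodule.smul_mem_smul (Ideal.mem_span_singleton_self b) trivial,
          s - b • y, ?_, add_sub_cancel _ _⟩
        rw [LinearMap.mem_ker, map_sub, map_smul, sub_eq_zero]
        exact ht.symm
      · refine Submodule.smul_le.2 fun a ha y _ => ?_
        obtain ⟨c, rfl⟩ := Ideal.mem_span_singleton.1 ha
        rw [LinearMap.mem_ker, map_smul, mul_smul]
        show b • (c • toSec (cst A X) ((cokernel.π ψ).app U (q.app U y))) = (0 : Sec (cst A X) (cokernel ψ) U)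
        rw [smul_comm]
        refine (congrArg (c • ·) ?_).trans (smul_zero c)
        show φV (cst A X) U b • (show Γ(cokernel ψ, U) from (cokernel.π ψ).app U (q.app U y)) = 0
        rw [← Scheme.Modules.Hom.app_smul]
        exact congr($(cokernel.condition ψ).app U (q.app U y))
      · rw [LinearMap.mem_ker] at hs0 ⊢
        show (cokernel.π ψ).app U (q.app U s) = 0
        rw [show q.app U s = 0 from hs0, map_zero]

variable [IsNoetherianRing A] (I : Ideal A) (n : ℕ) (M : X.Modules)

/-- `M / I^n M` as an iterated quotient. -/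
theorem exists_quot_iso (hM : Coh.IsQCoh M) :
    ∃ (Q : X.Modules) (q : M ⟶ Q) (e : Q ≅ Formal.modPow I n M), Coh.IsQCoh Q ∧
      q ≫ e.hom = Formal.modPowπ I n M ∧
        ∀ U : X.Opens, IsAffineOpen U → Function.Surjective (secMap (cst A X) q U) ∧
          LinearMap.ker (secMap (cst A X) q U) = I ^ n • ⊤ := by
  obtain ⟨L, hL⟩ := IsNoetherian.noetherian (I ^ n)
  obtain ⟨Q, q, hQ, hq, hkill, huniv, hsec⟩ := exists_quot L M hM
  have hL' : Ideal.span (L : Set A) = I ^ n := hL
  have h1 : ∀ a ∈ L, Formal.smulMod A M a ≫ Formal.modPowπ I n M = 0 := fun a ha => by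
    have e : Formal.smulMod A M a =
        Sigma.ι (fun _ : ↥(I ^ n) => M) ⟨a, hL' ▸ Ideal.subset_span ha⟩ ≫ Formal.smulFamily (I ^ n) M := by
      simp [Formal.smulFamily]
    rw [e, Category.assoc]
    exact (congrArg _ (cokernel.condition (Formal.smulFamily (I ^ n) M))).trans comp_zero
  have h2 : Formal.smulFamily (I ^ n) M ≫ q = 0 := by
    refine Sigma.hom_ext _ _ fun ⟨a, ha⟩ => ?_
    rw [comp_zero, ← Category.assoc, Formal.smulFamily, Sigma.ι_desc]
    show Formal.smulMod A M a ≫ q = 0
    rw [← hL'] at ha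
    refine Submodule.span_induction (p := fun a _ => Formal.smulMod A M a ≫ q = 0) hkill ?_ ?_ ?_ ha
    · refine Scheme.Modules.hom_ext _ _ fun U => AddCommGrpCat.hom_ext (AddMonoidHom.ext fun s => ?_)
      show q.app U (φV (cst A X) U 0 • s) = 0
      rw [map_zero, zero_smul, map_zero]
    · intro a b _ _ hA hB
      refine Scheme.Modules.hom_ext _ _ fun U => AddCommGrpCat.hom_ext (AddMonoidHom.ext fun s => ?_)
      show q.app U (φV (cst A X) U (a + b) • s) = 0
      rw [map_add, add_smul, map_add]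
      exact (congrArg₂ (· + ·) congr($(hA).app U s) congr($(hB).app U s)).trans (add_zero _)
    · intro c b _ hB
      refine Scheme.Modules.hom_ext _ _ fun U => AddCommGrpCat.hom_ext (AddMonoidHom.ext fun s => ?_)
      show q.app U (φV (cst A X) U (c * b) • s) = 0
      rw [map_mul, mul_comm, mul_smul]
      exact congr($(hB).app U (φV (cst A X) U c • s))
  obtain ⟨l, hl⟩ := huniv _ (Formal.modPowπ I n M) h1
  refine ⟨Q, q, ⟨l, cokernel.desc _ q h2, ?_, ?_⟩, hQ, hl, fun U hU => ?_⟩
  · rw [← cancel_epi q, ← Category.assoc, hl, Category.comp_id]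
    exact cokernel.π_desc _ _ _
  · refine coequalizer.hom_ext ?_
    show Formal.modPowπ I n M ≫ cokernel.desc _ q h2 ≫ l = Formal.modPowπ I n M ≫ 𝟙 _
    rw [Category.comp_id, ← Category.assoc]
    exact (congrArg (· ≫ l) (cokernel.π_desc _ _ _)).trans hl
  · rw [← hL']
    exact hsec U hU

theorem isQCoh_modPow (hM : Coh.IsQCoh M) : Coh.IsQCoh (Formal.modPow I n M) := by
  obtain ⟨Q, q, e, hQ, -, -⟩ := exists_quot_iso I n M hM
  exact (SheafOfModules.isQuasicoherent X.ringCatSheaf).prop_of_iso e hQ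

/-- Sections of `M / I^n M` on an affine open. -/
theorem secMap_modPowπ (hM : Coh.IsQCoh M) {U : X.Opens} (hU : IsAffineOpen U) :
    Function.Surjective (secMap (cst A X) (Formal.modPowπ I n M) U) ∧
      LinearMap.ker (secMap (cst A X) (Formal.modPowπ I n M) U) = I ^ n • ⊤ := by
  obtain ⟨Q, q, e, hQ, he, hsec⟩ := exists_quot_iso I n M hM
  obtain ⟨hs, hk⟩ := hsec U hU
  rw [← he]
  have hb : Function.Bijective (e.hom.app U) := ConcreteCategory.bijective_of_isIso _
  refine ⟨hb.2.comp hs, ?_⟩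
  rw [← hk]
  ext s
  show e.hom.app U (q.app U s) = 0 ↔ q.app U s = 0
  exact ⟨fun h => hb.1 (h.trans (map_zero _).symm), fun h => by rw [h, map_zero]⟩

theorem isCoh_modPow (hM : Coh.IsCoh M) [IsLocallyNoetherian X] : Coh.IsCoh (Formal.modPow I n M) := by
  haveI := isQCoh_modPow I n M hM.1
  refine QCohLib.isCoh_of_finite _ fun W hW => ?_
  haveI := QCohLib.finite_sections_of_isCoh hM hW
  exact Module.Finite.of_surjective
    ({ toFun := (Formal.modPowπ I n M).app W, map_add' := map_add ((Formal.modPowπ I n M).app W).hom,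
       map_smul' := fun c s => Scheme.Modules.Hom.app_smul _ c s } :
      Γ(M, W) →ₗ[Γ(X, W)] Γ(Formal.modPow I n M, W)) (secMap_modPowπ I n M hM.1 hW).1

end Groth.Agent.FormalLib
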