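import Groth.Agent.AssLib.Basic
import Groth.Agent.DCohLib.ClosedPush
import Groth.Agent.QCohLib.Coherent
import Groth.Agent.DevLib.Sub
import Groth.Prelude.Def_ClSub2

/-!
# Coherent modules with proper support
-/

set_option autoImplicit false
set_option backward.isDefEq.respectTransparency false

universe u

open CategoryTheory CategoryTheory.Limits AlgebraicGeometry TopologicalSpace Opposite
open Groth.Agent.PullbackMod

noncomputable section

namespace Groth.Agent.FormalLib

variable {X : Scheme.{u}}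

/-- A power of the vanishing ideal kills the sections over an affine open. -/
theorem exists_pow_kills [IsLocallyNoetherian X] {F : X.Modules} (hF : Coh.IsCoh F) (T : Closeds X)
    (hT : CohB1.support F ⊆ (T : Set X)) (W : X.affineOpens) :
    ∃ n : ℕ, ∀ k, n ≤ k → ((Scheme.IdealSheafData.vanishingIdeal T) ^ k).ideal W ≤
      Module.annihilator Γ(X, W.1) Γ(F, W.1) := by
  haveI := hF.1
  haveI := QCohLib.isNoetherianRing_section W.2
  haveI : Module.Finite Γ(X, W.1) Γ(F, W.1) := QCohLib.finite_sections_of_isCoh hF W.2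
  have hle : (Scheme.IdealSheafData.vanishingIdeal T).ideal W ≤
      (Module.annihilator Γ(X, W.1) Γ(F, W.1)).radical := by
    rw [Ideal.radical_eq_sInf]
    refine le_sInf fun P ⟨hP, hPp⟩ a ha => ?_
    have hs : (⟨P, hPp⟩ : PrimeSpectrum Γ(X, W.1)) ∈ Module.support Γ(X, W.1) Γ(F, W.1) := by
      rw [Module.support_eq_zeroLocus]
      exact hP
    rw [← AssLib.primeIdealOf_pt W.2 ⟨P, hPp⟩, ← AssLib.nontrivial_stalk_iff] at hs
    have hmem : AssLib.pt W.2 ⟨P, hPp⟩ ∈ (T : Set X) := hT (not_subsingleton_iff_nontrivial.2 hs)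
    rw [Scheme.IdealSheafData.vanishingIdeal_ideal] at ha
    exact (PrimeSpectrum.mem_vanishingIdeal _ _).1 ha ⟨P, hPp⟩ hmem
  obtain ⟨n, hn⟩ := Ideal.exists_pow_le_of_le_radical_of_fg hle (IsNoetherian.noetherian _)
  exact ⟨n, fun k hk => (Ideal.pow_le_pow_right hk).trans hn⟩

/-- Germs of the kernel of a closed subscheme. -/
theorem germ_mem_span_of_stalkMap_eq_zero (J : X.IdealSheafData) (W : X.affineOpens)
    (x : J.subscheme) (hx : J.subschemeι x ∈ W.1) (f : Γ(X, W.1))
    (hf : J.subschemeι.stalkMap x (X.presheaf.germ W.1 (J.subschemeι x) hx f) = 0) :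
    X.presheaf.germ W.1 (J.subschemeι x) hx f ∈
      (J.ideal W).map (X.presheaf.germ W.1 (J.subschemeι x) hx).hom := by
  set i := J.subschemeι
  rw [Scheme.Hom.germ_stalkMap_apply] at hf
  obtain ⟨O, hxO, j₁, j₂, hO⟩ := TopCat.Presheaf.germ_eq J.subscheme.presheaf x (U := i ⁻¹ᵁ W.1)
    (V := i ⁻¹ᵁ W.1) hx hx (i.app W.1 f) 0 (hf.trans (map_zero _).symm)
  obtain ⟨O', hO', hOO'⟩ := (i.isClosedEmbedding.isInducing.isOpen_iff).1 O.2
  have hxO' : i x ∈ O' := by
    have : x ∈ (i ⁻¹' O' : Set J.subscheme) := by rw [hOO']; exact hxO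
    exact this
  obtain ⟨g, hgle, hxg⟩ := W.2.exists_basicOpen_le ⟨i x, (show i x ∈ (⟨O', hO'⟩ : X.Opens) from hxO')⟩ hx
  let Dg : X.affineOpens := X.affineBasicOpen g
  have hle : i ⁻¹ᵁ Dg.1 ≤ O := fun z hz => by
    show z ∈ O.carrier
    rw [← hOO']
    exact hgle hz
  let r := X.presheaf.map (homOfLE (X.basicOpen_le g)).op
  have h0 : r f ∈ RingHom.ker (i.app Dg.1).hom := by
    rw [RingHom.mem_ker]
    refine (congr($(i.naturality (homOfLE (X.basicOpen_le g)).op) f)).trans ?_
    show J.subscheme.presheaf.map _ (i.app W.1 f) = 0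
    have h := congrArg (J.subscheme.presheaf.map (homOfLE hle).op) hO
    rw [map_zero, map_zero] at h
    rw [← CommRingCat.comp_apply, ← J.subscheme.presheaf.map_comp] at h
    exact h
  rw [Scheme.IdealSheafData.ker_subschemeι_app, ← J.map_ideal_basicOpen W g] at h0
  have h := Ideal.mem_map_of_mem (X.presheaf.germ Dg.1 (i x) hxg).hom h0
  rw [Ideal.map_map, ← CommRingCat.hom_comp] at h
  erw [X.presheaf.germ_res] at h
  rw [← X.presheaf.germ_res_apply (homOfLE (X.basicOpen_le g)) (i x) hxg f]
  exact h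

/-- A coherent module lives on a thickening of any closed set containing its support. -/
theorem exists_suppOn [IsNoetherian X] {F : X.Modules} (hF : Coh.IsCoh F) (T : Closeds X)
    (hT : CohB1.support F ⊆ (T : Set X)) :
    ∃ J : X.IdealSheafData, J.support = T ∧ DCohLib.SuppOn J.subschemeι F := by
  classical
  haveI := hF.1
  have hc : ∀ x : X, ∃ W : X.affineOpens, x ∈ W.1 := fun x => by
    obtain ⟨_, ⟨W, hW, rfl⟩, hxW, -⟩ :=
      X.isBasis_affineOpens.exists_subset_of_mem_open (Set.mem_univ x) isOpen_univ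
    exact ⟨⟨W, hW⟩, hxW⟩
  obtain ⟨S, hS⟩ := isCompact_univ.elim_finite_subcover (fun W : X.affineOpens => (W.1 : Set X))
    (fun W => W.1.2) fun x _ => Set.mem_iUnion.2 (hc x)
  choose n hn using exists_pow_kills hF T hT
  let J := (Scheme.IdealSheafData.vanishingIdeal T) ^ (S.sup n + 1)
  have hsupp : J.support = T := SetLike.coe_injective (by
    rw [Scheme.IdealSheafData.support_pow_succ, Scheme.IdealSheafData.coe_support_vanishingIdeal])
  refine ⟨J, hsupp, fun y hy => ?_, fun x a ha z => ?_⟩
  · exact DevLib.subsingleton_of_notMem fun h => hy (by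
      rw [Scheme.IdealSheafData.range_subschemeι, hsupp]
      exact hT h)
  · obtain ⟨W, hW, hxW⟩ := Set.mem_iUnion₂.1 (hS (Set.mem_univ (J.subschemeι x)))
    letI : Algebra Γ(X, W.1) (X.presheaf.stalk (J.subschemeι x)) := TopCat.Presheaf.algebra_section_stalk X.presheaf ⟨J.subschemeι x, hxW⟩
    haveI := W.2.isLocalization_stalk ⟨J.subschemeι x, hxW⟩
    obtain ⟨⟨f, s⟩, hfs⟩ := IsLocalization.surj (AssLib.pr (show IsAffineOpen W.1 from W.2) hxW).primeCompl a
    have hf0 : J.subschemeι.stalkMap x (X.presheaf.germ W.1 (J.subschemeι x) hxW f) = 0 := by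
      rw [show X.presheaf.germ W.1 (J.subschemeι x) hxW f = algebraMap Γ(X, W.1) (X.presheaf.stalk (J.subschemeι x)) f from rfl, ← hfs,
        map_mul, ha, zero_mul]
    have hspan := germ_mem_span_of_stalkMap_eq_zero J W x hxW f hf0
    letI := Module.compHom (F.presheaf.stalk (J.subschemeι x)) (X.presheaf.germ W.1 (J.subschemeι x) hxW).hom
    haveI := FlatLocus.isLocalizedModule_germL F W.2 (J.subschemeι x) hxW
    have hz : ∀ b ∈ (J.ideal W).map (X.presheaf.germ W.1 (J.subschemeι x) hxW).hom, ∀ w : F.presheaf.stalk (J.subschemeι x),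
        b • w = 0 := by
      intro b hb
      induction hb using Submodule.span_induction with
      | mem b hb =>
        obtain ⟨c, hc, rfl⟩ := hb
        intro w
        obtain ⟨⟨m, t⟩, hmt⟩ := IsLocalizedModule.surj (AssLib.pr W.2 hxW).primeCompl
          (FlatLocus.germL F W.1 (J.subschemeι x) hxW) w
        have hcm : c • m = 0 := Module.mem_annihilator.1
          (hn W (S.sup n + 1) ((Finset.le_sup hW).trans (Nat.le_succ _)) hc) m
        have hu : IsUnit (algebraMap Γ(X, W.1) (X.presheaf.stalk (J.subschemeι x)) t.1) := IsLocalization.map_units _ t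
        refine hu.smul_eq_zero.1 ?_
        rw [smul_comm]
        show X.presheaf.germ W.1 (J.subschemeι x) hxW c • (t.1 • w) = 0
        rw [show t.1 • w = t • w from rfl, hmt]
        refine (map_smul (FlatLocus.germL F W.1 (J.subschemeι x) hxW) c m).symm.trans ?_
        rw [hcm, map_zero]
      | zero => intro w; exact zero_smul _ w
      | add b c _ _ hb hc => intro w; rw [add_smul, hb w, hc w, add_zero]
      | smul r b _ hb => intro w; rw [smul_eq_mul, mul_smul, hb w, smul_zero]
    have hu : IsUnit (algebraMap Γ(X, W.1) (X.presheaf.stalk (J.subschemeι x)) s.1) := IsLocalization.map_units _ s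
    refine hu.smul_eq_zero.1 ?_
    rw [← mul_smul, mul_comm, hfs]
    exact hz _ hspan z

/-- A thickening of a scheme proper over a base is proper. -/
theorem isProper_of_surjective_closedImmersion {Z Z' S : Scheme.{u}} (j : Z ⟶ Z') (q : Z' ⟶ S)
    [IsClosedImmersion j] [Surjective j] [IsProper (j ≫ q)] [LocallyOfFiniteType q] : IsProper q := by
  haveI : UniversallyClosed q := UniversallyClosed.of_comp_surjective j q
  let P : pullback (j ≫ q) (j ≫ q) ⟶ pullback q q :=
    pullback.map _ _ _ _ j j (𝟙 S) (Category.comp_id _) (Category.comp_id _)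
  have e : pullback.diagonal (j ≫ q) ≫ P = j ≫ pullback.diagonal q := by
    apply pullback.hom_ext <;>
      simp only [P, Category.assoc, pullback.lift_fst, pullback.lift_snd, pullback.diagonal_fst,
        pullback.diagonal_snd, pullback.diagonal_fst_assoc, pullback.diagonal_snd_assoc, Category.comp_id]
  haveI : IsClosedImmersion P :=
    MorphismProperty.pullbackMap (P := @IsClosedImmersion) inferInstance inferInstance rfl rfl
  have hrange : Set.range (pullback.diagonal q) = P '' Set.range (pullback.diagonal (j ≫ q)) := by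
    ext z
    constructor
    · rintro ⟨w, rfl⟩
      obtain ⟨x, rfl⟩ := j.surjective w
      exact ⟨_, ⟨x, rfl⟩, by rw [← Scheme.Hom.comp_apply, e]; rfl⟩
    · rintro ⟨_, ⟨x, rfl⟩, rfl⟩
      exact ⟨j x, by rw [← Scheme.Hom.comp_apply, ← e]; rfl⟩
  haveI : IsSeparated q := ⟨IsClosedImmersion.of_isPreimmersion _ (by
    rw [hrange]
    exact P.isClosedMap _ (pullback.diagonal (j ≫ q)).isClosedEmbedding.isClosed_range)⟩
  exact IsProper.mk

/-- A coherent module with proper support comes from a proper closed subscheme. -/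
theorem exists_proper_model {S : Scheme.{u}} (p : X ⟶ S) [IsNoetherian X] [LocallyOfFiniteType p]
    {F : X.Modules} (hF : Coh.IsCoh F) (hs : ClSub.IsProperOver p (CohB1.support F)) :
    ∃ (Z : Scheme.{u}) (i : Z ⟶ X), IsClosedImmersion i ∧ IsProper (i ≫ p) ∧ DCohLib.SuppOn i F := by
  obtain ⟨hcl, hp⟩ := hs
  haveI := hp
  obtain ⟨J, hJ, hsupp⟩ := exists_suppOn hF ⟨_, hcl⟩ subset_rfl
  have hle : J ≤ Scheme.IdealSheafData.vanishingIdeal ⟨CohB1.support F, hcl⟩ :=
    Scheme.IdealSheafData.le_support_iff_le_vanishingIdeal.1 hJ.ge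
  let j := Scheme.IdealSheafData.inclusion hle
  haveI : IsProper (j ≫ J.subschemeι ≫ p) := by
    rw [← Category.assoc, Scheme.IdealSheafData.inclusion_subschemeι]
    exact hp
  haveI : Surjective j := ⟨fun z => by
    have hz : J.subschemeι z ∈ Set.range
        (Scheme.IdealSheafData.vanishingIdeal ⟨CohB1.support F, hcl⟩).subschemeι := by
      rw [Scheme.IdealSheafData.range_subschemeι, Scheme.IdealSheafData.coe_support_vanishingIdeal]
      have : J.subschemeι z ∈ (J.support : Set X) := by
        rw [← Scheme.IdealSheafData.range_subschemeι]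
        exact ⟨z, rfl⟩
      rwa [hJ] at this
    obtain ⟨w, hw⟩ := hz
    exact ⟨w, J.subschemeι.isClosedEmbedding.injective (by
      rw [← hw, ← Scheme.IdealSheafData.inclusion_subschemeι hle]
      rfl)⟩⟩
  exact ⟨_, J.subschemeι, inferInstance, isProper_of_surjective_closedImmersion j _, hsupp⟩

end Groth.Agent.FormalLib
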