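import Groth.Agent.FormalLib.Main
import Groth.Agent.FormalLib.SuppProper
import Groth.Agent.CohBase.PushFunctorial
import Groth.Agent.DCohLib.ClosedPush
import Groth.Agent.PullbackMod.Props

/-!
# Formal functions for modules with proper support
-/

set_option autoImplicit false
set_option backward.isDefEq.respectTransparency false

universe u

open CategoryTheory CategoryTheory.Limits AlgebraicGeometry TopologicalSpace Opposite
open Groth.Agent.CohBase Groth.Agent.ProjCoh Groth.Agent.PullbackMod

noncomputable section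

namespace Groth.Agent.FormalLib

/-- A map which is bijective on affine opens is an isomorphism. -/
theorem isIso_of_affine {X : Scheme.{u}} {M N : X.Modules} (f : M ⟶ N)
    (h : ∀ U : X.Opens, IsAffineOpen U → Function.Bijective (f.app U)) : IsIso f := by
  have hb : ∀ (x : X) (W : X.Opens), x ∈ W → ∃ U : X.Opens, IsAffineOpen U ∧ x ∈ U ∧ U ≤ W :=
    fun x W hx => by
      obtain ⟨_, ⟨U : X.Opens, hU, rfl⟩, hxU, hUW⟩ :=
        X.isBasis_affineOpens.exists_subset_of_mem_open (a := x) hx W.2
      exact ⟨U, hU, hxU, hUW⟩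
  refine (isIso_iff_stalk f).2 fun x => ⟨(injective_iff_map_eq_zero _).2 fun z hz => ?_, fun z => ?_⟩
  · obtain ⟨W, hx, m, rfl⟩ := TopCat.Presheaf.exists_germ_eq M.presheaf z
    rw [stalkLin_germ] at hz
    obtain ⟨W', hx', i, i', hres⟩ := TopCat.Presheaf.germ_eq N.presheaf x hx hx (f.app W m) 0
      (hz.trans (map_zero _).symm)
    obtain ⟨U, hU, hxU, hUW⟩ := hb x W' hx'
    have h0 : f.app U (M.presheaf.map (homOfLE (hUW.trans i.le)).op m) = 0 := by
      rw [QCohLib.app_res]
      have h' := congrArg (N.presheaf.map (homOfLE hUW).op) hres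
      rw [map_zero, map_zero, ← ConcreteCategory.comp_apply, ← N.presheaf.map_comp] at h'
      exact h'
    rw [← M.presheaf.germ_res_apply (homOfLE (hUW.trans i.le)) x hxU m,
      (h U hU).1 (h0.trans (map_zero _).symm), map_zero]
  · obtain ⟨W, hx, m, rfl⟩ := TopCat.Presheaf.exists_germ_eq N.presheaf z
    obtain ⟨U, hU, hxU, hUW⟩ := hb x W hx
    obtain ⟨t, ht⟩ := (h U hU).2 (N.presheaf.map (homOfLE hUW).op m)
    exact ⟨M.presheaf.germ U x hxU t, by rw [stalkLin_germ, ht, N.presheaf.germ_res_apply]⟩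

section Push

variable {A : Type u} [CommRing A] {X Z : Scheme.{u}} [X.Over (Spec (CommRingCat.of A))]
  [Z.Over (Spec (CommRingCat.of A))] (i : Z ⟶ X)
  (w : i ≫ X ↘ Spec (CommRingCat.of A) = Z ↘ Spec (CommRingCat.of A))

local notation "P" => Scheme.Modules.pushforward i

include w in
lemma app_φV_cst (U : X.Opens) (a : A) :
    i.app U (φV (cst A X) U a) = φV (cst A Z) (i ⁻¹ᵁ U) a := by
  refine (congr($(i.naturality (homOfLE (le_top : U ≤ ⊤)).op) (cst A X a))).trans ?_
  refine congrArg (Z.presheaf.map (homOfLE (le_top : i ⁻¹ᵁ U ≤ ⊤)).op) ?_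
  have h : Coh.toGlobal (i ≫ X ↘ Spec (CommRingCat.of A)) a = i.appTop (cst A X a) :=
    RingHom.congr_fun (toGlobal_comp (X ↘ Spec (CommRingCat.of A)) i) a
  rw [w] at h
  exact h.symm

include w in
lemma push_smulMod (G : Z.Modules) (a : A) :
    (P).map (Formal.smulMod A G a) = Formal.smulMod A ((P).obj G) a := by
  refine Scheme.Modules.hom_ext _ _ fun U => AddCommGrpCat.hom_ext (AddMonoidHom.ext fun s => ?_)
  show φV (cst A Z) (i ⁻¹ᵁ U) a • (show Γ(G, i ⁻¹ᵁ U) from s) = i.app U (φV (cst A X) U a) • (show Γ(G, i ⁻¹ᵁ U) from s)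
  rw [app_φV_cst i w]

variable (I : Ideal A) (n : ℕ) (G : Z.Modules)

include w in
lemma smulFamily_push_π :
    Formal.smulFamily (I ^ n) ((P).obj G) ≫ (P).map (Formal.modPowπ I n G) = 0 := by
  refine Sigma.hom_ext _ _ fun a => ?_
  rw [comp_zero, ← Category.assoc, Formal.smulFamily, Sigma.ι_desc, ← push_smulMod i w, ← Functor.map_comp]
  have h : Formal.smulMod A G a.1 ≫ Formal.modPowπ I n G = 0 := by
    rw [show Formal.smulMod A G a.1 = Sigma.ι (fun _ : ↥(I ^ n) => G) a ≫ Formal.smulFamily (I ^ n) G by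
      rw [Formal.smulFamily, Sigma.ι_desc], Category.assoc]
    exact (congrArg _ (cokernel.condition (Formal.smulFamily (I ^ n) G))).trans comp_zero
  rw [h, Functor.map_zero]

/-- The comparison of the quotients. -/
def pushModPow : Formal.modPow I n ((P).obj G) ⟶ (P).obj (Formal.modPow I n G) :=
  cokernel.desc _ _ (smulFamily_push_π i w I n G)

lemma π_pushModPow : Formal.modPowπ I n ((P).obj G) ≫ pushModPow i w I n G = (P).map (Formal.modPowπ I n G) :=
  cokernel.π_desc _ _ _

lemma trans_pushModPow : Formal.modPowTrans I n ((P).obj G) ≫ pushModPow i w I n G =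
    pushModPow i w I (n + 1) G ≫ (P).map (Formal.modPowTrans I n G) := by
  refine coequalizer.hom_ext ?_
  show Formal.modPowπ I (n + 1) ((P).obj G) ≫ _ = Formal.modPowπ I (n + 1) ((P).obj G) ≫ _
  rw [← Category.assoc, Formal.modPowπ_trans, π_pushModPow, ← Category.assoc, π_pushModPow, ← Functor.map_comp,
    Formal.modPowπ_trans]

include w in
theorem isIso_pushModPow [IsNoetherianRing A] [IsClosedImmersion i] (hG : Coh.IsQCoh G) :
    IsIso (pushModPow i w I n G) := by
  haveI := hG
  haveI hQ : Coh.IsQCoh ((P).obj G) := QCohLib.isQCoh_pushforward G i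
  refine isIso_of_affine _ fun U hU => ?_
  obtain ⟨hs, hk⟩ := secMap_modPowπ I n ((P).obj G) hQ hU
  obtain ⟨hs', hk'⟩ := secMap_modPowπ I n G hG (hU.preimage i)
  let e : Sec (cst A X) ((P).obj G) U →ₗ[A] Sec (cst A Z) G (i ⁻¹ᵁ U) :=
    { toFun := fun s => s
      map_add' := fun _ _ => rfl
      map_smul' := fun a s => by
        show i.app U (φV (cst A X) U a) • (show Γ(G, i ⁻¹ᵁ U) from s) = φV (cst A Z) (i ⁻¹ᵁ U) a • (show Γ(G, i ⁻¹ᵁ U) from s)
        rw [app_φV_cst i w] }
  have he : Function.Surjective e := fun s => ⟨s, rfl⟩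
  have key : ∀ s, (pushModPow i w I n G).app U (secMap (cst A X) (Formal.modPowπ I n ((P).obj G)) U s) =
      secMap (cst A Z) (Formal.modPowπ I n G) (i ⁻¹ᵁ U) (e s) := fun s =>
    congr($(π_pushModPow i w I n G).app U s)
  refine ⟨(injective_iff_map_eq_zero _).2 fun z hz => ?_, fun z => ?_⟩
  · obtain ⟨s, rfl⟩ := hs z
    rw [key] at hz
    have h1 : e s ∈ I ^ n • (⊤ : Submodule A (Sec (cst A Z) G (i ⁻¹ᵁ U))) := by
      rw [← hk']
      exact hz
    rw [← LinearMap.range_eq_top.2 he, ← Submodule.map_top, ← Submodule.map_smul''] at h1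
    obtain ⟨t, ht, hts⟩ := h1
    have hst : t = s := hts
    rw [← hk, hst] at ht
    exact ht
  · obtain ⟨s, rfl⟩ := hs' z
    obtain ⟨t, rfl⟩ := he s
    exact ⟨_, key t⟩

lemma affAcyclic_closed [IsClosedImmersion i] (G : Z.Modules) [Coh.IsQCoh G] : ProperFin.AffAcyclic i G :=
  fun _ hV m => affine_vanishing G (hV.preimage i) m

include w in
/-- The inverse systems of cohomology groups agree. -/
theorem exists_push_systems [IsNoetherianRing A] [IsClosedImmersion i] (hG : Coh.IsQCoh G) (p : ℕ) :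
    ∃ (e₀ : Coh.HH Z G p ≃+ Coh.HH X ((P).obj G) p)
      (e : ∀ n, Formal.HHmodPow I G p n ≃+ Formal.HHmodPow I ((P).obj G) p n),
      (∀ (a : A) (x : Coh.HH Z G p), e₀ (a • x) = a • e₀ x) ∧
      (∀ n x, Formal.toHHmodPow I ((P).obj G) p n (e₀ x) = e n (Formal.toHHmodPow I G p n x)) ∧
        ∀ n x, Formal.HHmodPowTrans I ((P).obj G) p n (e (n + 1) x) = e n (Formal.HHmodPowTrans I G p n x) := by
  haveI := hG
  haveI hQ : ∀ n, Coh.IsQCoh (Formal.modPow I n G) := fun n => isQCoh_modPow I n G hG
  obtain ⟨E, hE⟩ := exists_pushNatEquiv i.base (B := fun V : X.Opens => IsAffineOpen V)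
    (fun W y hy => by
      obtain ⟨_, ⟨V : X.Opens, hV, rfl⟩, hyV, hVW⟩ :=
        X.isBasis_affineOpens.exists_subset_of_mem_open (a := y) hy W.2
      exact ⟨V, hV, hyV, hVW⟩) p
  let T : ∀ (M : Z.Modules) [Coh.IsQCoh M], Coh.HH Z M p ≃+ Coh.HH X ((P).obj M) p := fun M _ =>
    ((HHEquiv M p).trans (E (Coh.toAb M) fun V hV m => affAcyclic_closed i M V hV m)).trans
      (HHEquiv ((P).obj M) p).symm
  have hT : ∀ (M N : Z.Modules) [Coh.IsQCoh M] [Coh.IsQCoh N] (f : M ⟶ N) (x : Coh.HH Z M p),
      T N (Sheaf.H.map ((SheafOfModules.toSheaf _).map f) p x) =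
        Sheaf.H.map ((SheafOfModules.toSheaf _).map ((P).map f)) p (T M x) := fun M N _ _ f x => by
    apply (HHEquiv ((P).obj N) p).injective
    refine ((HHEquiv ((P).obj N) p).apply_symm_apply _).trans ?_
    show E (Coh.toAb N) _ (HEquiv (Coh.toAb N) p (Sheaf.H.map ((SheafOfModules.toSheaf _).map f) p x)) = _
    refine (congrArg _ (HEquiv_map ((SheafOfModules.toSheaf _).map f) p x)).trans ?_
    refine (hE _ _ (fun V hV m => affAcyclic_closed i M V hV m) _ ((SheafOfModules.toSheaf _).map f) _).trans ?_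
    rw [show (HHEquiv ((P).obj N) p) = HEquiv (Coh.toAb ((P).obj N)) p from rfl, HEquiv_map]
    refine congrArg _ ?_
    exact ((HHEquiv ((P).obj M) p).apply_symm_apply _).symm
  let J : ∀ n, Formal.modPow I (n + 1) ((P).obj G) ≅ (P).obj (Formal.modPow I (n + 1) G) := fun n =>
    haveI := isIso_pushModPow i w I (n + 1) G hG
    asIso (pushModPow i w I (n + 1) G)
  let c : ∀ n, Formal.HHmodPow I ((P).obj G) p n ≃+ Coh.HH X ((P).obj (Formal.modPow I (n + 1) G)) p := fun n =>
    { toFun := Sheaf.H.map ((SheafOfModules.toSheaf _).map (J n).hom) p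
      invFun := Sheaf.H.map ((SheafOfModules.toSheaf _).map (J n).inv) p
      left_inv := fun x => (Formal.HHmap_comp _ _ p x).trans (by
        rw [Iso.hom_inv_id]
        exact (congrArg (fun t => Sheaf.H.map t p x) ((SheafOfModules.toSheaf X.ringCatSheaf).map_id _)).trans
          (Sheaf.H.map_id_apply x))
      right_inv := fun x => (Formal.HHmap_comp _ _ p x).trans (by
        rw [Iso.inv_hom_id]
        exact (congrArg (fun t => Sheaf.H.map t p x) ((SheafOfModules.toSheaf X.ringCatSheaf).map_id _)).trans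
          (Sheaf.H.map_id_apply x))
      map_add' := map_add _ }
  refine ⟨T G, fun n => (T (Formal.modPow I (n + 1) G)).trans (c n).symm, fun a x => ?_, fun n x => ?_, fun n x => ?_⟩
  · have h := hT G G (Formal.smulMod A G a) x
    rw [push_smulMod i w] at h
    exact h
  · apply (c n).injective
    refine Eq.trans ?_ ((c n).apply_symm_apply _).symm
    refine (Formal.HHmap_comp (Formal.modPowπ I (n + 1) ((P).obj G)) (J n).hom p _).trans ?_
    refine Eq.trans ?_ (hT G (Formal.modPow I (n + 1) G) (Formal.modPowπ I (n + 1) G) x).symm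
    exact congrArg (fun t => Sheaf.H.map ((SheafOfModules.toSheaf _).map t) p (T G x)) (π_pushModPow i w I (n + 1) G)
  · apply (c n).injective
    refine Eq.trans ?_ ((c n).apply_symm_apply _).symm
    refine Eq.trans ?_ (hT _ _ (Formal.modPowTrans I (n + 1) G) x).symm
    refine Eq.trans ?_ (congrArg _ ((c (n + 1)).apply_symm_apply (T _ x)))
    refine (Formal.HHmap_comp (Formal.modPowTrans I (n + 1) ((P).obj G)) (J n).hom p _).trans ?_
    refine Eq.trans ?_ (Formal.HHmap_comp (J (n + 1)).hom ((P).map (Formal.modPowTrans I (n + 1) G)) p _).symm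
    exact congrArg (fun t => Sheaf.H.map ((SheafOfModules.toSheaf _).map t) p _) (trans_pushModPow i w I (n + 1) G)

end Push

variable {A : Type u} [CommRing A] [IsNoetherianRing A] {X : Scheme.{u}} [X.Over (Spec (CommRingCat.of A))]
  [LocallyOfFiniteType (X ↘ Spec (CommRingCat.of A))] [QuasiCompact (X ↘ Spec (CommRingCat.of A))]

/-- The comparison for a module with proper support. -/
theorem exists_comparison_properSupport (I : Ideal A) {M : X.Modules} (hM : Coh.IsCoh M)
    (hs : ClSub.IsProperOver (X ↘ Spec (CommRingCat.of A)) (CohB1.support M)) (p : ℕ) :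
    ∃ Ψ : AdicCompletion I (Coh.HH X M p) →+ Formal.HHlim I M p,
      Function.Bijective Ψ ∧ (∀ x, Ψ (AdicCompletion.of I _ x) = Formal.toHHlim I M p x) ∧
        Module.Finite A (Coh.HH X M p) := by
  haveI : IsNoetherian X := by
    haveI : IsLocallyNoetherian X := LocallyOfFiniteType.isLocallyNoetherian (X ↘ Spec (CommRingCat.of A))
    haveI : CompactSpace X := QuasiCompact.compactSpace_of_compactSpace (X ↘ Spec (CommRingCat.of A))
    constructor
  obtain ⟨Z, i, hi, hp, hsupp⟩ := exists_proper_model (X ↘ Spec (CommRingCat.of A)) hM hs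
  letI : Z.Over (Spec (CommRingCat.of A)) := ⟨i ≫ X ↘ Spec (CommRingCat.of A)⟩
  haveI : IsProper (Z ↘ Spec (CommRingCat.of A)) := hp
  let G := (Scheme.Modules.pullback i).obj M
  have hG : Coh.IsCoh G := PullbackMod.isCoh_pullback i M hM
  haveI : IsNoetherian Z := by
    haveI : IsLocallyNoetherian Z := LocallyOfFiniteType.isLocallyNoetherian (Z ↘ Spec (CommRingCat.of A))
    haveI : CompactSpace Z := QuasiCompact.compactSpace_of_compactSpace (Z ↘ Spec (CommRingCat.of A))
    constructor
  haveI := DCohLib.isIso_unit_of_suppOn i hsupp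
  let η : M ≅ (Scheme.Modules.pushforward i).obj G :=
    @asIso _ _ _ _ ((Scheme.Modules.pullbackPushforwardAdjunction i).unit.app M) inferInstance
  obtain ⟨e₀, e, he₀, he, het⟩ := exists_push_systems i rfl I G hG.1 p
  obtain ⟨Ψ, hΨ, hΨof⟩ := exists_comparison I hG p
  haveI : Module.Finite A (Coh.HH Z G p) := ProperFin.allFin_of_isCoh (Z ↘ Spec (CommRingCat.of A)) G hG p
  -- transport along `η`
  let mη : ∀ {M N : X.Modules} (f : M ≅ N), Coh.HH X M p ≃+ Coh.HH X N p := fun f =>
    { toFun := Sheaf.H.map ((SheafOfModules.toSheaf _).map f.hom) p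
      invFun := Sheaf.H.map ((SheafOfModules.toSheaf _).map f.inv) p
      left_inv := fun x => (Formal.HHmap_comp _ _ p x).trans (by
        rw [Iso.hom_inv_id]
        exact (congrArg (fun t => Sheaf.H.map t p x) ((SheafOfModules.toSheaf X.ringCatSheaf).map_id _)).trans
          (Sheaf.H.map_id_apply x))
      right_inv := fun x => (Formal.HHmap_comp _ _ p x).trans (by
        rw [Iso.inv_hom_id]
        exact (congrArg (fun t => Sheaf.H.map t p x) ((SheafOfModules.toSheaf X.ringCatSheaf).map_id _)).trans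
          (Sheaf.H.map_id_apply x))
      map_add' := map_add _ }
  have hk : ∀ n, Formal.smulFamily (I ^ (n + 1)) ((Scheme.Modules.pushforward i).obj G) ≫
      η.inv ≫ Formal.modPowπ I (n + 1) M = 0 := fun n => by
    refine Sigma.hom_ext _ _ fun a => ?_
    rw [comp_zero, ← Category.assoc, Formal.smulFamily, Sigma.ι_desc, ← Category.assoc, smulMod_natural,
      Category.assoc]
    have h : Formal.smulMod A M a.1 ≫ Formal.modPowπ I (n + 1) M = 0 := by
      rw [show Formal.smulMod A M a.1 = Sigma.ι (fun _ : ↥(I ^ (n + 1)) => M) a ≫ Formal.smulFamily (I ^ (n + 1)) M by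
        rw [Formal.smulFamily, Sigma.ι_desc], Category.assoc]
      exact (congrArg _ (cokernel.condition (Formal.smulFamily (I ^ (n + 1)) M))).trans comp_zero
    rw [h, comp_zero]
  have hk' : ∀ n, Formal.smulFamily (I ^ (n + 1)) M ≫
      η.hom ≫ Formal.modPowπ I (n + 1) ((Scheme.Modules.pushforward i).obj G) = 0 := fun n => by
    refine Sigma.hom_ext _ _ fun a => ?_
    rw [comp_zero, ← Category.assoc, Formal.smulFamily, Sigma.ι_desc, ← Category.assoc, smulMod_natural,
      Category.assoc]
    have h : Formal.smulMod A ((Scheme.Modules.pushforward i).obj G) a.1 ≫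
        Formal.modPowπ I (n + 1) ((Scheme.Modules.pushforward i).obj G) = 0 := by
      rw [show Formal.smulMod A ((Scheme.Modules.pushforward i).obj G) a.1 =
        Sigma.ι (fun _ : ↥(I ^ (n + 1)) => (Scheme.Modules.pushforward i).obj G) a ≫
          Formal.smulFamily (I ^ (n + 1)) ((Scheme.Modules.pushforward i).obj G) by
        rw [Formal.smulFamily, Sigma.ι_desc], Category.assoc]
      exact (congrArg _ (cokernel.condition (Formal.smulFamily (I ^ (n + 1))
        ((Scheme.Modules.pushforward i).obj G)))).trans comp_zero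
    rw [h, comp_zero]
  let J : ∀ n, Formal.modPow I (n + 1) ((Scheme.Modules.pushforward i).obj G) ≅ Formal.modPow I (n + 1) M := fun n =>
    { hom := cokernel.desc _ _ (hk n)
      inv := cokernel.desc _ _ (hk' n)
      hom_inv_id := coequalizer.hom_ext (by
        show Formal.modPowπ I (n + 1) _ ≫ _ ≫ _ = Formal.modPowπ I (n + 1) _ ≫ 𝟙 _
        rw [Category.comp_id, ← Category.assoc]
        refine (congrArg (· ≫ _) (cokernel.π_desc _ _ _)).trans ?_
        rw [Category.assoc]
        refine (congrArg (η.inv ≫ ·) (cokernel.π_desc _ _ _)).trans ?_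
        rw [← Category.assoc, η.inv_hom_id, Category.id_comp])
      inv_hom_id := coequalizer.hom_ext (by
        show Formal.modPowπ I (n + 1) _ ≫ _ ≫ _ = Formal.modPowπ I (n + 1) _ ≫ 𝟙 _
        rw [Category.comp_id, ← Category.assoc]
        refine (congrArg (· ≫ _) (cokernel.π_desc _ _ _)).trans ?_
        rw [Category.assoc]
        refine (congrArg (η.hom ≫ ·) (cokernel.π_desc _ _ _)).trans ?_
        rw [← Category.assoc, η.hom_inv_id, Category.id_comp]) }
  let d₀ : Coh.HH Z G p ≃+ Coh.HH X M p := e₀.trans (mη η.symm)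
  let d : ∀ n, Formal.HHmodPow I G p n ≃+ Formal.HHmodPow I M p n := fun n => (e n).trans (mη (J n))
  have hd₀ : ∀ (a : A) x, d₀ (a • x) = a • d₀ x := fun a x => by
    show Sheaf.H.map _ p (e₀ (a • x)) = _
    rw [he₀]
    show Sheaf.H.map ((SheafOfModules.toSheaf _).map η.inv) p
      (Sheaf.H.map ((SheafOfModules.toSheaf _).map (Formal.smulMod A _ a)) p (e₀ x)) =
        Sheaf.H.map ((SheafOfModules.toSheaf _).map (Formal.smulMod A M a)) p (d₀ x)
    refine (Formal.HHmap_comp _ _ p _).trans (Eq.trans ?_ (Formal.HHmap_comp η.inv _ p _).symm)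
    rw [smulMod_natural]
    rfl
  have hd : ∀ n x, Formal.toHHmodPow I M p n (d₀ x) = d n (Formal.toHHmodPow I G p n x) := fun n x => by
    show Sheaf.H.map _ p (Sheaf.H.map ((SheafOfModules.toSheaf _).map η.inv) p (e₀ x)) =
      Sheaf.H.map ((SheafOfModules.toSheaf _).map (J n).hom) p (e n _)
    rw [← he]
    refine (Formal.HHmap_comp _ _ p _).trans (Eq.trans ?_ (Formal.HHmap_comp _ _ p _).symm)
    exact congrArg (fun t => Sheaf.H.map ((SheafOfModules.toSheaf _).map t) p (e₀ x)) (cokernel.π_desc _ _ _).symm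
  have hdt : ∀ n x, Formal.HHmodPowTrans I M p n (d (n + 1) x) = d n (Formal.HHmodPowTrans I G p n x) := fun n x => by
    show Sheaf.H.map _ p (Sheaf.H.map ((SheafOfModules.toSheaf _).map (J (n + 1)).hom) p (e (n + 1) x)) =
      Sheaf.H.map ((SheafOfModules.toSheaf _).map (J n).hom) p (e n _)
    rw [← het]
    refine (Formal.HHmap_comp _ _ p _).trans (Eq.trans ?_ (Formal.HHmap_comp _ _ p _).symm)
    refine congrArg (fun t => Sheaf.H.map ((SheafOfModules.toSheaf _).map t) p (e (n + 1) x)) ?_
    refine coequalizer.hom_ext ?_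
    show Formal.modPowπ I (n + 1 + 1) _ ≫ _ ≫ _ = Formal.modPowπ I (n + 1 + 1) _ ≫ _ ≫ _
    rw [← Category.assoc, ← Category.assoc, Formal.modPowπ_trans]
    refine (congrArg (· ≫ _) (cokernel.π_desc _ _ _)).trans ?_
    rw [Category.assoc, Formal.modPowπ_trans]
    exact (cokernel.π_desc _ _ _).symm
  let dL₀ : Coh.HH Z G p ≃ₗ[A] Coh.HH X M p := { d₀ with map_smul' := hd₀ }
  let dlim : Formal.HHlim I G p ≃+ Formal.HHlim I M p :=
    { toFun := fun y => ⟨fun n => d n (y.1 n), fun n => (hdt n _).trans (congrArg (d n) (y.2 n))⟩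
      invFun := fun y => ⟨fun n => (d n).symm (y.1 n), fun n => (d n).injective (by
        rw [← hdt, AddEquiv.apply_symm_apply, AddEquiv.apply_symm_apply]
        exact y.2 n)⟩
      left_inv := fun y => Subtype.ext (funext fun n => (d n).symm_apply_apply _)
      right_inv := fun y => Subtype.ext (funext fun n => (d n).apply_symm_apply _)
      map_add' := fun y z => Subtype.ext (funext fun n => map_add (d n) _ _) }
  refine ⟨(dlim.toAddMonoidHom.comp Ψ).comp (AdicCompletion.map I dL₀.symm.toLinearMap).toAddMonoidHom,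
    dlim.bijective.comp (hΨ.comp (AdicCompletion.congr I dL₀.symm).bijective), fun x => ?_, Module.Finite.equiv dL₀⟩
  show dlim (Ψ (AdicCompletion.map I dL₀.symm.toLinearMap (AdicCompletion.of I _ x))) = _
  rw [AdicCompletion.map_of, hΨof]
  refine Subtype.ext (funext fun n => ?_)
  show d n (Formal.toHHmodPow I G p n (dL₀.symm x)) = Formal.toHHmodPow I M p n x
  rw [← hd]
  exact congrArg _ (d₀.apply_symm_apply x)

end Groth.Agent.FormalLib
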