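import Groth.Agent.FormalLib.Compare

/-!
# The theorem on formal functions
-/

set_option autoImplicit false

universe u

open CategoryTheory AlgebraicGeometry TopologicalSpace Opposite
open Groth.Agent.CohBase Groth.Agent.ProjCoh

noncomputable section

namespace Groth.Agent.FormalLib

variable {A : Type u} [CommRing A] [IsNoetherianRing A] {X : Scheme.{u}}
  [X.Over (Spec (CommRingCat.of A))] [IsProper (X ↘ Spec (CommRingCat.of A))] (I : Ideal A)
  {M : X.Modules} (hM : Coh.IsCoh M) (p : ℕ)

include hM

/-- The kernels are submodules which are stable for large index. -/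
theorem exists_kernel_stable : ∃ (R : ℕ → Submodule A (Coh.HH X M p)) (c : ℕ),
    (∀ n x, x ∈ R n ↔ Formal.toHHmodPow I M p n x = 0) ∧
      (∀ n, I ^ (n + 1) • ⊤ ≤ R n) ∧ (∀ n, I • R n ≤ R (n + 1)) ∧
        (∀ k, c ≤ k → R (k + 1) ≤ I • R k) ∧ ∀ n, c ≤ n → R n ≤ I ^ (n - c) • ⊤ := by
  haveI := hM.1
  obtain ⟨ι, hι, V, hcov, haff⟩ := exists_affine_cover (str A X)
  haveI := hι
  obtain ⟨c, hc⟩ := exists_cyc_stable (str A X) M V hM hcov haff I p
  let cl := cls (A := A) V hcov haff M p
  let K : ℕ → Submodule A ↥(LinearMap.ker (dL (str A X) M V p)) := fun k =>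
    (cyc (str A X) M V I p k).comap (LinearMap.ker (dL (str A X) M V p)).subtype
  have hsmul : ∀ a k, I ^ a • K k ≤ K (a + k) := fun a k => by
    refine Submodule.smul_le.2 fun b hb z hz => ⟨(b • z).2, ?_⟩
    show b • z.1 ∈ _
    rw [pow_add, Submodule.mul_smul]
    exact Submodule.smul_mem_smul hb hz.2
  have hK0 : K 0 = ⊤ := eq_top_iff.2 fun z _ => ⟨z.2, by
    rw [pow_zero, Ideal.one_eq_top, Submodule.top_smul]; trivial⟩
  have hmain : ∀ k, c ≤ k → (K k).map cl ≤ I ^ (k - c) • (K c).map cl := by
    rintro k hk _ ⟨z, hz, rfl⟩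
    obtain ⟨y, hy, b, hb, hyb⟩ := Submodule.mem_sup.1 (hc k hk hz)
    have hle : cyc (str A X) M V I p c ≤ LinearMap.ker (dL (str A X) M V p) := inf_le_left
    rw [show cyc (str A X) M V I p c = (K c).map (LinearMap.ker (dL (str A X) M V p)).subtype by
      rw [Submodule.map_comap_subtype, inf_eq_right.2 hle], ← Submodule.map_smul''] at hy
    obtain ⟨y, hy, rfl⟩ := hy
    have hb0 : b ∈ bdry (str A X) M V (1 : Ideal A) p 0 := by
      cases p with
      | zero => exact hb
      | succ q =>
        exact Submodule.map_mono (by rw [pow_zero, Ideal.one_eq_top, Submodule.top_smul]; exact le_top) hb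
    have he : cl z = cl y := by
      rw [← sub_eq_zero, ← map_sub, cls_eq_zero_iff]
      show z.1 - y.1 ∈ _
      rw [show z.1 - y.1 = b from sub_eq_iff_eq_add'.2 hyb.symm]
      exact hb0
    have := Submodule.mem_map_of_mem (f := cl) hy
    rw [Submodule.map_smul''] at this
    exact he ▸ this
  have hsm : ∀ a k, I ^ a • (K k).map cl ≤ (K (a + k)).map cl := fun a k => by
    rw [← Submodule.map_smul'']
    exact Submodule.map_mono (hsmul a k)
  refine ⟨fun n => (K (n + 1)).map cl, c + 1, fun n x =>
      (toHHmodPow_eq_zero_iff V hcov haff I M n p x).symm, fun n => ?_, fun n => ?_, fun k hk => ?_,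
    fun n hn => ?_⟩
  · have := hsm (n + 1) 0
    rwa [hK0, Submodule.map_top, LinearMap.range_eq_top.2 (cls_surjective V hcov haff M p), Nat.add_zero] at this
  · have := hsm 1 (n + 1)
    rwa [pow_one, show 1 + (n + 1) = n + 1 + 1 by omega] at this
  · refine (hmain (k + 1 + 1) (by omega)).trans ?_
    rw [show k + 1 + 1 - c = 1 + (k + 1 - c) by omega, pow_add, pow_one, Submodule.mul_smul]
    refine Submodule.smul_mono le_rfl ((hsm (k + 1 - c) c).trans ?_)
    rw [show k + 1 - c + c = k + 1 by omega]
  · refine (hmain (n + 1) (by omega)).trans ?_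
    exact Submodule.smul_mono (Ideal.pow_le_pow_right (by omega)) le_top

omit hM

/-- The transition maps of the completion. -/
def cTrans (M : X.Modules) (n k : ℕ) (h : n ≤ k) : Formal.modPow I (k + 1) M ⟶ Formal.modPow I (n + 1) M :=
  (Formal.completion I M).map (homOfLE h).op

omit [IsNoetherianRing A] [IsProper (X ↘ Spec (CommRingCat.of A))] in
lemma cTrans_self (n : ℕ) (M : X.Modules) : cTrans I M n n le_rfl = 𝟙 _ :=
  (Formal.completion I M).map_id (op n)

omit [IsNoetherianRing A] [IsProper (X ↘ Spec (CommRingCat.of A))] in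
lemma cTrans_succ (n k : ℕ) (h : n ≤ k) (M : X.Modules) :
    cTrans I M n (k + 1) (h.trans (Nat.le_add_right k 1)) =
      Formal.modPowTrans I (k + 1) M ≫ cTrans I M n k h := by
  refine ((Formal.completion I M).map_comp (homOfLE (Nat.le_add_right k 1)).op (homOfLE h).op).trans ?_
  exact congrArg (· ≫ cTrans I M n k h)
    (Functor.ofOpSequence_map_homOfLE_succ (X := fun n => Formal.modPow I (n + 1) M)
      (fun n => Formal.modPowTrans I (n + 1) M) k)

omit [IsNoetherianRing A] [IsProper (X ↘ Spec (CommRingCat.of A))] in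
lemma map_completion (n k : ℕ) (h : n ≤ k) (M : X.Modules) :
    Formal.modPowπ I (k + 1) M ≫ cTrans I M n k h = Formal.modPowπ I (n + 1) M := by
  induction k, h using Nat.le_induction with
  | base => rw [cTrans_self, Category.comp_id]
  | succ k hk ih => rw [cTrans_succ I n k hk M, ← Category.assoc, Formal.modPowπ_trans, ih]

include hM

/-- The images become stationary. -/
theorem exists_image_stable : ∃ c : ℕ, ∀ (n k : ℕ) (h : n ≤ k), n + c ≤ k →
    Set.range (Sheaf.H.map ((SheafOfModules.toSheaf X.ringCatSheaf).map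
      (cTrans I M n k h)) p) = Set.range (Formal.toHHmodPow I M p n) := by
  haveI := hM.1
  obtain ⟨ι, hι, V, hcov, haff⟩ := exists_affine_cover (str A X)
  haveI := hι
  obtain ⟨c, hc⟩ := exists_cocycle_near (str A X) M V hM hcov haff I p
  refine ⟨c, fun n k h hk => Set.Subset.antisymm ?_ ?_⟩
  · haveI := isQCoh_modPow I (n + 1) M hM.1
    haveI := isQCoh_modPow I (k + 1) M hM.1
    rintro _ ⟨y, rfl⟩
    obtain ⟨⟨zb, hzb⟩, rfl⟩ := cls_surjective (A := A) V hcov haff (Formal.modPow I (k + 1) M) p y
    obtain ⟨z, rfl⟩ := cochMap_π_surjective V I M haff (k + 1) p zb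
    have hd : dL (str A X) M V p z ∈ I ^ (k + 1) • (⊤ : Submodule A (Coch (str A X) M V (p + 1))) := by
      refine (cochMap_π_eq_zero_iff V I M haff (k + 1) (p + 1) _).1 ?_
      rw [← dL_cochMap]
      exact hzb
    obtain ⟨y, hy, hzy⟩ := hc (n + 1) z (Submodule.smul_mono_left (Ideal.pow_le_pow_right (by omega)) hd)
    refine ⟨cls V hcov haff M p ⟨y, hy⟩, ?_⟩
    refine Eq.trans (cls_natural V hcov haff (Formal.modPowπ I (n + 1) M) p ⟨y, hy⟩)
      (Eq.trans ?_ (cls_natural V hcov haff (cTrans I M n k h) p ⟨_, hzb⟩).symm)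
    refine congrArg (cls V hcov haff (Formal.modPow I (n + 1) M) p) (Subtype.ext ?_)
    show cochMap V (Formal.modPowπ I (n + 1) M) p y =
      cochMap V (cTrans I M n k h) p (cochMap V (Formal.modPowπ I (k + 1) M) p z)
    rw [← (cochMap_π_eq_zero_iff V I M haff (n + 1) p (z - y)).2 hzy |> fun e => (sub_eq_zero.1 ((map_sub _ _ _).symm.trans e)),
      ← map_completion I n k h M]
    rfl
  · rintro _ ⟨x, rfl⟩
    refine ⟨Formal.toHHmodPow I M p k x, ?_⟩
    refine (Formal.HHmap_comp (Formal.modPowπ I (k + 1) M) (cTrans I M n k h) p x).trans ?_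
    exact congrArg (fun t => Sheaf.H.map ((SheafOfModules.toSheaf X.ringCatSheaf).map t) p x) (map_completion I n k h M)

/-- The comparison map from the completion. -/
theorem exists_comparison : ∃ Ψ : AdicCompletion I (Coh.HH X M p) →+ Formal.HHlim I M p,
    Function.Bijective Ψ ∧ ∀ x, Ψ (AdicCompletion.of I _ x) = Formal.toHHlim I M p x := by
  obtain ⟨R, c₀, hR, hle, -, -, hR'⟩ := exists_kernel_stable I hM p
  obtain ⟨c₁, hc₁⟩ := exists_image_stable I hM p
  let θ : ∀ n, (Coh.HH X M p ⧸ (I ^ (n + 1) • ⊤ : Submodule A (Coh.HH X M p))) →+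
      Formal.HHmodPow I M p n := fun n =>
    QuotientAddGroup.lift _ (Formal.toHHmodPow I M p n) fun x hx => (hR n x).1 (hle n hx)
  let Ψ : AdicCompletion I (Coh.HH X M p) →+ Formal.HHlim I M p :=
    { toFun := fun x => ⟨fun n => θ n (x.val (n + 1)), fun n => by
        obtain ⟨h, hh⟩ := Submodule.Quotient.mk_surjective _ (x.val (n + 1 + 1))
        have hx := x.property (show n + 1 ≤ n + 1 + 1 by omega)
        rw [← hh] at hx
        show Formal.HHmodPowTrans I M p n (θ (n + 1) (x.val (n + 1 + 1))) = θ n (x.val (n + 1))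
        rw [← hh, ← hx]
        exact (Formal.toHHlim I M p h).2 n⟩
      map_zero' := Subtype.ext (funext fun n => map_zero (θ n))
      map_add' := fun x y => Subtype.ext (funext fun n => map_add (θ n) _ _) }
  refine ⟨Ψ, ⟨(injective_iff_map_eq_zero _).2 fun x hx => AdicCompletion.ext fun m => ?_, fun y => ?_⟩,
    fun x => rfl⟩
  · obtain ⟨h, hh⟩ := Submodule.Quotient.mk_surjective _ (x.val (m + c₀ + 1))
    have h0 : θ (m + c₀) (x.val (m + c₀ + 1)) = 0 := congrFun (congrArg Subtype.val hx) (m + c₀)
    rw [← hh] at h0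
    have hm : h ∈ I ^ m • (⊤ : Submodule A (Coh.HH X M p)) := by
      have := hR' (m + c₀) (by omega) ((hR (m + c₀) h).2 h0)
      rwa [Nat.add_sub_cancel] at this
    have hx' := x.property (show m ≤ m + c₀ + 1 by omega)
    rw [← hh] at hx'
    rw [← hx']
    exact (Submodule.Quotient.mk_eq_zero _).2 hm
  · have hdown : ∀ n k (h : n ≤ k), Sheaf.H.map ((SheafOfModules.toSheaf X.ringCatSheaf).map
        (cTrans I M n k h)) p (y.1 k) = y.1 n := by
      intro n k h
      induction k, h using Nat.le_induction with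
      | base =>
        rw [cTrans_self]
        refine (congrArg (fun t => Sheaf.H.map t p (y.1 n))
          ((SheafOfModules.toSheaf X.ringCatSheaf).map_id (Formal.modPow I (n + 1) M))).trans ?_
        exact Sheaf.H.map_id_apply _
      | succ k hk ih =>
        rw [cTrans_succ I n k hk]
        refine (Formal.HHmap_comp (Formal.modPowTrans I (k + 1) M) (cTrans I M n k hk) p (y.1 (k + 1))).symm.trans ?_
        exact (congrArg _ (y.2 k)).trans ih
    have hlift : ∀ n, ∃ h, Formal.toHHmodPow I M p n h = y.1 n := fun n => by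
      have := hc₁ n (n + c₁) (Nat.le_add_right _ _) le_rfl
      exact this.subset ⟨y.1 (n + c₁), hdown n (n + c₁) (Nat.le_add_right _ _)⟩
    choose h hh using hlift
    have hker : ∀ n k, n ≤ k → h k - h n ∈ R n := fun n k hnk => by
      rw [hR, map_sub, hh, sub_eq_zero, ← hdown n k hnk, ← hh k]
      refine Eq.trans ?_ (Formal.HHmap_comp _ _ p (h k)).symm
      exact (congrArg (fun t => Sheaf.H.map ((SheafOfModules.toSheaf X.ringCatSheaf).map t) p (h k))
        (map_completion I n k hnk M)).symm
    let f : AdicCompletion.AdicCauchySequence I (Coh.HH X M p) :=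
      AdicCompletion.AdicCauchySequence.mk I _ (fun m => h (m + c₀)) fun m => by
        rw [SModEq.sub_mem, ← neg_sub]
        refine neg_mem ?_
        have := hR' (m + c₀) (by omega) (hker (m + c₀) (m + 1 + c₀) (by omega))
        rwa [Nat.add_sub_cancel] at this
    refine ⟨AdicCompletion.mk I _ f, Subtype.ext (funext fun n => ?_)⟩
    show Formal.toHHmodPow I M p n (h (n + 1 + c₀)) = y.1 n
    rw [← hh n, ← sub_eq_zero, ← map_sub]
    exact (hR n _).1 (hker n (n + 1 + c₀) (by omega))

omit hM in
/-- The theorem on formal functions over a complete base. -/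
theorem toHHlim_bijective [IsAdicComplete I A] (hM : Coh.IsCoh M) :
    Function.Bijective (Formal.toHHlim I M p) := by
  haveI : IsNoetherian X := by
    haveI : IsLocallyNoetherian X := LocallyOfFiniteType.isLocallyNoetherian (X ↘ Spec (CommRingCat.of A))
    haveI : CompactSpace X := QuasiCompact.compactSpace_of_compactSpace (X ↘ Spec (CommRingCat.of A))
    constructor
  haveI : Module.Finite A (Coh.HH X M p) := ProperFin.allFin_of_isCoh (X ↘ Spec (CommRingCat.of A)) M hM p
  obtain ⟨Ψ, hΨ, hof⟩ := exists_comparison I hM p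
  rw [show ⇑(Formal.toHHlim I M p) = Ψ ∘ AdicCompletion.of I _ from funext fun x => (hof x).symm]
  exact hΨ.comp (of_bijective_of_finite I _)

end Groth.Agent.FormalLib
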