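import Groth.Agent.FormalLib.Alg
import Groth.Agent.CohBase.Functorial

/-!
# Cohomology of `M / I^n M` through a fixed covering
-/

set_option autoImplicit false

universe u

open CategoryTheory AlgebraicGeometry TopologicalSpace Opposite
open Groth.Agent.CohBase Groth.Agent.ProjCoh

noncomputable section

namespace Groth.Agent.FormalLib

/-- A finite covering by affines with affine intersections. -/
theorem exists_affine_cover {A : Type u} [CommRing A] {X : Scheme.{u}}
    (p : X ⟶ Spec (CommRingCat.of A)) [IsSeparated p] [QuasiCompact p] :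
    ∃ (ι : Type u) (_ : Finite ι) (V : ι → X.Opens), (⊤ : X.Opens) ≤ iSup V ∧
      ∀ (m : ℕ) (i : Fin (m + 1) → ι), IsAffineOpen (inter V i) := by
  haveI : CompactSpace X := QuasiCompact.compactSpace_of_compactSpace p
  haveI : X.IsSeparated := ⟨by
    rw [← Limits.terminal.comp_from p]
    infer_instance⟩
  obtain ⟨t, ht⟩ := isCompact_univ.elim_finite_subcover (fun W : X.affineOpens => (W.1 : Set X))
    (fun W => W.1.2) (fun z _ => Set.mem_iUnion.2 (by
      obtain ⟨_, ⟨V, hV, rfl⟩, hz, -⟩ :=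
        X.isBasis_affineOpens.exists_subset_of_mem_open (Set.mem_univ z) isOpen_univ
      exact ⟨⟨V, hV⟩, hz⟩))
  refine ⟨↥t, inferInstance, fun W => W.1.1, fun z _ => ?_,
    fun m i => IsAffineOpen.iInf (fun k => (i k).1.2)⟩
  obtain ⟨W, hW, hz⟩ := Set.mem_iUnion₂.1 (ht (Set.mem_univ z))
  exact Opens.mem_iSup.2 ⟨⟨W, hW⟩, hz⟩

variable {A : Type u} [CommRing A] {X : Scheme.{u}} [X.Over (Spec (CommRingCat.of A))]
  {ι : Type u} (V : ι → X.Opens)

/-- The structure map. -/
abbrev str (A : Type u) [CommRing A] (X : Scheme.{u}) [X.Over (Spec (CommRingCat.of A))] :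
    X ⟶ Spec (CommRingCat.of A) := X ↘ Spec (CommRingCat.of A)

/-- A map of modules on cochains. -/
def cochMap {N N' : X.Modules} (f : N ⟶ N') (q : ℕ) : Coch (str A X) N V q →ₗ[A] Coch (str A X) N' V q :=
  LinearMap.pi fun i => (secMap (cst A X) f (inter V i)).comp (LinearMap.proj i)

lemma dL_cochMap {N N' : X.Modules} (f : N ⟶ N') (q : ℕ) (z : Coch (str A X) N V q) :
    dL (str A X) N' V q (cochMap V f q z) = cochMap V f (q + 1) (dL (str A X) N V q z) := by
  rw [dL_eq, dL_eq]
  exact cdiff_ccMap V ((SheafOfModules.toSheaf X.ringCatSheaf).map f).hom q z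

variable (hcov : (⊤ : X.Opens) ≤ iSup V) (haff : ∀ (m : ℕ) (i : Fin (m + 1) → ι), IsAffineOpen (inter V i))

/-- The class of a cocycle. -/
def cls (N : X.Modules) [Coh.IsQCoh N] (q : ℕ) :
    ↥(LinearMap.ker (dL (str A X) N V q)) →ₗ[A] Coh.HH X N q where
  toFun z := (HHEquiv N q).symm (cmp V hcov (acyclic_of_affine N V haff) q
    ⟨z.1, (dL_eq (str A X) N V q z.1).symm.trans z.2⟩)
  map_add' z w := by
    rw [← map_add (HHEquiv N q).symm, ← map_add (cmp V hcov (acyclic_of_affine N V haff) q)]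
    exact congrArg (fun t => (HHEquiv N q).symm (cmp V hcov (acyclic_of_affine N V haff) q t))
      (Subtype.ext rfl)
  map_smul' b z := by
    apply (HHEquiv N q).injective
    rw [AddEquiv.apply_symm_apply]
    refine (cmp_natural V hcov (acyclic_of_affine N V haff) (acyclic_of_affine N V haff) (Coh.smulAb N (Coh.toGlobal (str A X) b))
      ⟨z.1, (dL_eq (str A X) N V q z.1).symm.trans z.2⟩ _ rfl).trans ?_
    rw [show hmap (⊤ : X.Opens) (Coh.smulAb N (Coh.toGlobal (str A X) b)) q
        (cmp V hcov (acyclic_of_affine N V haff) q ⟨z.1, (dL_eq (str A X) N V q z.1).symm.trans z.2⟩) =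
      hmap (⊤ : X.Opens) (Coh.smulAb N (Coh.toGlobal (str A X) b)) q (HHEquiv N q ((HHEquiv N q).symm
        (cmp V hcov (acyclic_of_affine N V haff) q ⟨z.1, (dL_eq (str A X) N V q z.1).symm.trans z.2⟩))) by
      rw [AddEquiv.apply_symm_apply]]
    exact (HEquiv_map (Coh.smulAb N (Coh.toGlobal (str A X) b)) q _).symm

lemma cls_surjective (N : X.Modules) [Coh.IsQCoh N] (q : ℕ) :
    Function.Surjective (cls (A := A) V hcov haff N q) := fun x => by
  obtain ⟨z, hz⟩ := cmp_surjective V hcov (acyclic_of_affine N V haff) q (HHEquiv N q x)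
  refine ⟨⟨z.1, (dL_eq (str A X) N V q z.1).trans z.2⟩, (HHEquiv N q).injective ?_⟩
  exact ((HHEquiv N q).apply_symm_apply _).trans hz

lemma cls_eq_zero_iff (N : X.Modules) [Coh.IsQCoh N] (q : ℕ) (z) :
    cls (A := A) V hcov haff N q z = 0 ↔ z.1 ∈ bdry (str A X) N V (1 : Ideal A) q 0 := by
  refine (map_eq_zero_iff _ (HHEquiv N q).symm.injective).trans ((cmp_eq_zero_iff V hcov _ _).trans ?_)
  cases q with
  | zero => exact Iff.rfl
  | succ q =>
    show z.1 ∈ (cdiff V (Coh.toAb N).obj q).range ↔ z.1 ∈ Submodule.map (dL (str A X) N V q) _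
    rw [pow_zero, Ideal.one_eq_top, Submodule.top_smul, Submodule.map_top, LinearMap.mem_range]
    exact ⟨fun ⟨b, hb⟩ => ⟨b, (dL_eq _ _ _ _ _).trans hb⟩,
      fun ⟨b, hb⟩ => ⟨b, (dL_eq _ _ _ _ _).symm.trans hb⟩⟩

lemma cls_natural {N N' : X.Modules} [Coh.IsQCoh N] [Coh.IsQCoh N'] (f : N ⟶ N') (q : ℕ)
    (z : ↥(LinearMap.ker (dL (str A X) N V q))) :
    Sheaf.H.map ((SheafOfModules.toSheaf X.ringCatSheaf).map f) q (cls V hcov haff N q z) =
      cls V hcov haff N' q ⟨cochMap V f q z.1, by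
        rw [LinearMap.mem_ker, dL_cochMap, LinearMap.mem_ker.1 z.2, map_zero]⟩ := by
  apply (HHEquiv N' q).injective
  refine (HEquiv_map ((SheafOfModules.toSheaf X.ringCatSheaf).map f) q _).trans ?_
  refine Eq.trans ?_ ((HHEquiv N' q).apply_symm_apply _).symm
  show hmap _ _ q (HEquiv (Coh.toAb N) q ((HEquiv (Coh.toAb N) q).symm _)) = _
  rw [AddEquiv.apply_symm_apply]
  exact (cmp_natural V hcov (acyclic_of_affine N V haff) (acyclic_of_affine N' V haff)
    ((SheafOfModules.toSheaf X.ringCatSheaf).map f) _ _ rfl).symm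

section Quotient

variable [IsNoetherianRing A] (I : Ideal A) (M : X.Modules) [hM : Coh.IsQCoh M]

omit hcov in
lemma cochMap_π_surjective (haff : ∀ (m : ℕ) (i : Fin (m + 1) → ι), IsAffineOpen (inter V i)) (n q : ℕ) :
    Function.Surjective (cochMap (A := A) V (Formal.modPowπ I n M) q) := fun c => by
  choose b hb using fun i => (secMap_modPowπ I n M hM (haff q i)).1 (c i)
  exact ⟨b, funext hb⟩

omit hcov in
lemma cochMap_π_eq_zero_iff [Finite ι] (haff : ∀ (m : ℕ) (i : Fin (m + 1) → ι), IsAffineOpen (inter V i))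
    (n q : ℕ) (c : Coch (str A X) M V q) :
    cochMap (A := A) V (Formal.modPowπ I n M) q c = 0 ↔
      c ∈ I ^ n • (⊤ : Submodule A (Coch (str A X) M V q)) := by
  rw [mem_smul_top_iff, funext_iff]
  refine forall_congr' fun i => ?_
  have h := SetLike.ext_iff.1 (secMap_modPowπ (A := A) I n M hM (haff q i)).2 (c i)
  rw [LinearMap.mem_ker] at h
  exact h

variable [Finite ι]

include hM in
/-- The kernel of the projection to a quotient. -/
theorem toHHmodPow_eq_zero_iff (n q : ℕ) (x : Coh.HH X M q) :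
    Formal.toHHmodPow I M q n x = 0 ↔
      x ∈ ((cyc (str A X) M V I q (n + 1)).comap (LinearMap.ker (dL (str A X) M V q)).subtype).map
        (cls V hcov haff M q) := by
  haveI := isQCoh_modPow I (n + 1) M hM
  constructor
  · intro h
    obtain ⟨z, rfl⟩ := cls_surjective (A := A) V hcov haff M q x
    have h0 := (cls_natural V hcov haff (Formal.modPowπ I (n + 1) M) q z).symm.trans h
    rw [cls_eq_zero_iff] at h0
    cases q with
    | zero =>
      have h1 := (cochMap_π_eq_zero_iff V I M haff (n + 1) 0 z.1).1 h0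
      exact ⟨z, ⟨z.2, h1⟩, rfl⟩
    | succ q =>
      obtain ⟨b, -, hb⟩ := h0
      obtain ⟨b', rfl⟩ := cochMap_π_surjective V I M haff (n + 1) q b
      rw [dL_cochMap] at hb
      have hd : dL (str A X) M V (q + 1) (dL (str A X) M V q b') = 0 := by
        rw [dL_eq, dL_eq]
        exact cdiff_cdiff _ _ _
      refine ⟨z - ⟨dL (str A X) M V q b', hd⟩, ⟨?_, ?_⟩, ?_⟩
      · show dL (str A X) M V (q + 1) (z.1 - dL (str A X) M V q b') = 0
        rw [map_sub, LinearMap.mem_ker.1 z.2, hd, sub_zero]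
      · refine (cochMap_π_eq_zero_iff V I M haff (n + 1) (q + 1) _).1 ?_
        show cochMap V _ (q + 1) (z.1 - dL (str A X) M V q b') = 0
        rw [map_sub, hb, sub_self]
      · rw [map_sub, sub_eq_self, cls_eq_zero_iff]
        refine Submodule.mem_map_of_mem ?_
        rw [pow_zero, Ideal.one_eq_top, Submodule.top_smul]
        trivial
  · rintro ⟨z, ⟨-, hz⟩, rfl⟩
    refine (cls_natural V hcov haff (Formal.modPowπ I (n + 1) M) q z).trans ?_
    rw [cls_eq_zero_iff]
    show cochMap (A := A) V (Formal.modPowπ I (n + 1) M) q z.1 ∈ _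
    rw [(cochMap_π_eq_zero_iff V I M haff (n + 1) q z.1).2 hz]
    exact zero_mem _

end Quotient

end Groth.Agent.FormalLib
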