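import Groth.Agent.ProjCoh.PSData
import Mathlib.RingTheory.PolynomialAlgebra
import Mathlib.Algebra.Category.Ring.Constructions

/-!
# Functions on the affine line over a scheme
-/

set_option autoImplicit false
set_option backward.defeqAttrib.useBackward true

universe u

open CategoryTheory CategoryTheory.Limits AlgebraicGeometry TopologicalSpace Opposite

noncomputable section

namespace Groth.Agent.FormalLib

attribute [local instance] Polynomial.algebra

variable {A : Type u} [CommRing A] {X Y : Scheme.{u}} {p : X ⟶ Spec (CommRingCat.of A)}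
  {fY : Y ⟶ X} {pY : Y ⟶ Spec (CommRingCat.of (Polynomial A))}

/-- The coordinate, restricted to an open. -/
def coordT (pY : Y ⟶ Spec (CommRingCat.of (Polynomial A))) (W : Y.Opens) : Γ(Y, W) :=
  Y.presheaf.map (homOfLE (le_top : W ≤ ⊤)).op (Coh.toGlobal pY Polynomial.X)

/-- The functions over an affine open. -/
def polySec (fY : Y ⟶ X) (pY : Y ⟶ Spec (CommRingCat.of (Polynomial A))) (U : X.Opens) :
    Polynomial Γ(X, U) →+* Γ(Y, fY ⁻¹ᵁ U) :=
  Polynomial.eval₂RingHom (fY.app U).hom (coordT pY (fY ⁻¹ᵁ U))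

lemma isAffineOpen_preimage_line (h : IsPullback fY pY p (Spec.map (CommRingCat.ofHom Polynomial.C)))
    {U : X.Opens} (hU : IsAffineOpen U) : IsAffineOpen (fY ⁻¹ᵁ U) :=
  haveI : IsAffineHom fY := MorphismProperty.of_isPullback h.flip inferInstance
  hU.preimage fY

/-- Functions over an affine open of the line are polynomials. -/
theorem polySec_bijective (h : IsPullback fY pY p (Spec.map (CommRingCat.ofHom Polynomial.C)))
    {U : X.Opens} (hU : IsAffineOpen U) : Function.Bijective (polySec fY pY U) := by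
  let V := fY ⁻¹ᵁ U
  let φ : CommRingCat.of A ⟶ Γ(X, U) := Spec.preimage (hU.fromSpec ≫ p)
  letI : Algebra A Γ(X, U) := φ.hom.toAlgebra
  let iX : CommRingCat.of (Polynomial A) ⟶ CommRingCat.of (Polynomial Γ(X, U)) :=
    CommRingCat.ofHom (Polynomial.mapRingHom φ.hom)
  have hpo : IsPushout φ (CommRingCat.ofHom Polynomial.C) (CommRingCat.ofHom Polynomial.C) iX :=
    CommRingCat.isPushout_of_isPushout A Γ(X, U) (Polynomial A) (Polynomial Γ(X, U))
  have h2 := isPullback_SpecMap_of_isPushout φ (CommRingCat.ofHom Polynomial.C)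
    (CommRingCat.ofHom Polynomial.C) iX hpo
  have h1 : IsPullback (fY ∣_ U) (V.ι ≫ pY) (U.ι ≫ p) (Spec.map (CommRingCat.ofHom Polynomial.C)) :=
    (isPullback_morphismRestrict fY U).paste_vert h
  have hφ : hU.isoSpec.hom ≫ Spec.map φ = U.ι ≫ p := by
    show hU.isoSpec.hom ≫ Spec.map (Spec.preimage _) = _
    rw [Spec.map_preimage, IsAffineOpen.fromSpec, Category.assoc, Iso.hom_inv_id_assoc]
  have h3 : IsPullback ((fY ∣_ U) ≫ hU.isoSpec.hom) (V.ι ≫ pY) (Spec.map φ)
      (Spec.map (CommRingCat.ofHom Polynomial.C)) :=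
    h1.of_iso (Iso.refl _) hU.isoSpec (Iso.refl _) (Iso.refl _) (by simp) (by simp) (by simp [hφ]) (by simp)
  let e := h3.isoIsPullback _ _ h2
  have he1 : e.hom ≫ Spec.map (CommRingCat.ofHom (Polynomial.C : Γ(X, U) →+* _)) = (fY ∣_ U) ≫ hU.isoSpec.hom :=
    h3.isoIsPullback_hom_fst _ _ h2
  have he2 : e.hom ≫ Spec.map iX = V.ι ≫ pY := h3.isoIsPullback_hom_snd _ _ h2
  haveI : IsIso e.hom.appTop := inferInstanceAs (IsIso (Scheme.Γ.map e.hom.op))
  let ψ : Polynomial Γ(X, U) →+* Γ(Y, V) :=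
    ((Scheme.ΓSpecIso _).inv ≫ e.hom.appTop ≫ V.topIso.hom).hom
  have hψb : Function.Bijective ψ :=
    ConcreteCategory.bijective_of_isIso ((Scheme.ΓSpecIso _).inv ≫ e.hom.appTop ≫ V.topIso.hom)
  suffices hψ : ψ = polySec fY pY U by rw [← hψ]; exact hψb
  refine Polynomial.ringHom_ext (fun c => ?_) ?_
  · refine Eq.trans ?_ (Polynomial.eval₂_C (fY.app U).hom (coordT pY (fY ⁻¹ᵁ U))).symm
    show ((Scheme.ΓSpecIso _).inv ≫ e.hom.appTop ≫ V.topIso.hom) (Polynomial.C c) = fY.app U c
    have key : CommRingCat.ofHom (Polynomial.C : Γ(X, U) →+* _) ≫ (Scheme.ΓSpecIso _).inv ≫ e.hom.appTop ≫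
        V.topIso.hom = fY.app U := by
      rw [Scheme.ΓSpecIso_inv_naturality_assoc, ← Scheme.Hom.comp_appTop_assoc, he1, Scheme.Hom.comp_appTop,
        IsAffineOpen.isoSpec_hom, Category.assoc, Scheme.Opens.toSpecΓ_appTop, Category.assoc,
        morphismRestrict_appTop, Scheme.Opens.topIso_inv, Scheme.Opens.topIso_hom]
      erw [Iso.inv_hom_id_assoc, Category.assoc, ← Category.assoc (X.presheaf.map _), fY.naturality,
        Category.assoc, ← Y.presheaf.map_comp, ← Y.presheaf.map_comp]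
      exact (congrArg (fY.app U ≫ ·) (by rw [← Y.presheaf.map_id]; rfl)).trans (Category.comp_id _)
    exact congr($(key).hom c)
  · refine Eq.trans ?_ (Polynomial.eval₂_X (fY.app U).hom (coordT pY (fY ⁻¹ᵁ U))).symm
    show ((Scheme.ΓSpecIso _).inv ≫ e.hom.appTop ≫ V.topIso.hom) Polynomial.X = _
    rw [show (Polynomial.X : Polynomial Γ(X, U)) = iX Polynomial.X from (Polynomial.map_X φ.hom).symm]
    have key : iX ≫ (Scheme.ΓSpecIso _).inv ≫ e.hom.appTop ≫ V.topIso.hom =
        (Scheme.ΓSpecIso _).inv ≫ pY.appTop ≫ Y.presheaf.map (homOfLE (le_top : V ≤ ⊤)).op := by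
      rw [Scheme.ΓSpecIso_inv_naturality_assoc, ← Scheme.Hom.comp_appTop_assoc, he2, Scheme.Hom.comp_appTop,
        Category.assoc, Scheme.Opens.ι_appTop, Scheme.Opens.topIso_hom]
      erw [← Y.presheaf.map_comp]
      rfl
    exact congr($(key).hom Polynomial.X)

end Groth.Agent.FormalLib
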