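import Groth.Agent.FormalLib.ReesCoh
import Mathlib.RingTheory.AdicCompletion.AsTensorProduct
import Mathlib.RingTheory.Filtration

/-!
# Consequences of the finiteness of the Rees module
-/

set_option autoImplicit false

universe u

open CategoryTheory AlgebraicGeometry TopologicalSpace
open Groth.Agent.CohBase Groth.Agent.ProjCoh

noncomputable section

namespace Groth.Agent.FormalLib

variable {A : Type u} [CommRing A] [IsNoetherianRing A] {X : Scheme.{u}}
  (p : X ⟶ Spec (CommRingCat.of A)) [IsProper p] (M : X.Modules) {ι : Type u} [Finite ι]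
  (V : ι → X.Opens) (hM : Coh.IsCoh M) (hcov : (⊤ : X.Opens) ≤ iSup V)
  (haff : ∀ (m : ℕ) (i : Fin (m + 1) → ι), IsAffineOpen (inter V i)) (I : Ideal A)

/-- Cocycles with values in `I^k`. -/
abbrev cyc (q k : ℕ) : Submodule A (Coch p M V q) :=
  LinearMap.ker (dL p M V q) ⊓ I ^ k • ⊤

omit [IsNoetherianRing A] [IsProper p] [Finite ι] in
lemma pow_smul_span_le_cyc {q d k : ℕ} (hdk : d ≤ k) {g : Coch p M V q} (hd : dL p M V q g = 0)
    (hg : g ∈ I ^ d • (⊤ : Submodule A (Coch p M V q))) :
    I ^ (k - d) • Submodule.span A {g} ≤ cyc p M V I q k := by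
  refine le_inf (Submodule.smul_le_right.trans ((Submodule.span_singleton_le_iff_mem _ _).2 hd)) ?_
  refine (Submodule.smul_mono le_rfl ((Submodule.span_singleton_le_iff_mem _ _).2 hg)).trans ?_
  rw [← Submodule.mul_smul, ← pow_add, Nat.sub_add_cancel hdk]

include hM hcov haff in
/-- Cocycles in high powers come from lower ones. -/
theorem exists_cyc_stable (q : ℕ) :
    ∃ c, ∀ k, c ≤ k → cyc p M V I q k ≤ I ^ (k - c) • cyc p M V I q c ⊔ bdry p M V I q k := by
  obtain ⟨m, deg, g, hg, hgen⟩ := exists_rees_generators p M V hM hcov haff I q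
  obtain ⟨c, hc⟩ := Finite.exists_le deg
  refine ⟨c, fun k hk z hz => (?_ : _ ≤ I ^ (k - c) • cyc p M V I q c ⊔ bdry p M V I q k) (hgen k z hz.1 hz.2)⟩
  refine sup_le (iSup₂_le fun l hl => le_sup_of_le_left ?_) le_sup_right
  rw [show k - deg l = (k - c) + (c - deg l) by have := hc l; omega, pow_add, Submodule.mul_smul]
  exact Submodule.smul_mono le_rfl (pow_smul_span_le_cyc p M V I (hc l) (hg l).1 (hg l).2)

include hM hcov haff in
/-- Almost cocycles are congruent to cocycles. -/
theorem exists_cocycle_near (q : ℕ) :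
    ∃ c, ∀ (n : ℕ) (z : Coch p M V q), dL p M V q z ∈ I ^ (n + c) • (⊤ : Submodule A (Coch p M V (q + 1))) →
      ∃ y, dL p M V q y = 0 ∧ z - y ∈ I ^ n • (⊤ : Submodule A (Coch p M V q)) := by
  obtain ⟨m, deg, g, hg, hgen⟩ := exists_rees_generators p M V hM hcov haff I (q + 1)
  obtain ⟨k₀, hk₀⟩ := Finite.exists_le deg
  let F : Submodule A (Coch p M V (q + 1)) := ⨆ l, I ^ (k₀ - deg l) • Submodule.span A {g l}
  haveI : Module.Finite A F := Module.Finite.iff_fg.2
    (Submodule.fg_iSup _ fun l => Submodule.FG.smul (IsNoetherian.noetherian (I ^ (k₀ - deg l)))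
      (Submodule.fg_span_singleton (g l)))
  let B := LinearMap.range (dL p M V q)
  obtain ⟨c, hc⟩ := I.exists_pow_inf_eq_pow_smul (B.comap F.subtype)
  refine ⟨c + k₀, fun n z hz => ?_⟩
  have hzd : dL p M V (q + 1) (dL p M V q z) = 0 := by
    rw [dL_eq, dL_eq]
    exact cdiff_cdiff _ _ _
  have h := hgen (n + (c + k₀)) _ hzd hz
  have hF : (⨆ l, ⨆ (_ : deg l ≤ n + (c + k₀)), I ^ (n + (c + k₀) - deg l) • Submodule.span A {g l}) ≤
      I ^ (n + c) • F := by
    refine iSup₂_le fun l _ => ?_
    rw [show n + (c + k₀) - deg l = (n + c) + (k₀ - deg l) by have := hk₀ l; omega, pow_add, Submodule.mul_smul]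
    exact Submodule.smul_mono le_rfl (le_iSup (fun l => I ^ (k₀ - deg l) • Submodule.span A {g l}) l)
  obtain ⟨f, hf, b, ⟨u, hu, rfl⟩, hfb⟩ := Submodule.mem_sup.1 h
  replace hf := hF hf
  have hfB : f ∈ B := ⟨z - u, by rw [map_sub, ← hfb, add_sub_cancel_right]⟩
  rw [show F = (⊤ : Submodule A F).map F.subtype from (Submodule.map_subtype_top F).symm,
    ← Submodule.map_smul''] at hf
  obtain ⟨f', hf', rfl⟩ := hf
  have hf'' : f' ∈ I ^ n • B.comap F.subtype := by
    have h2 : f' ∈ I ^ (n + c) • (⊤ : Submodule A F) ⊓ B.comap F.subtype := ⟨hf', hfB⟩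
    rw [hc (n + c) (by omega), Nat.add_sub_cancel] at h2
    exact Submodule.smul_mono le_rfl inf_le_right h2
  have h3 : F.subtype f' ∈ I ^ n • B := by
    have := Submodule.mem_map_of_mem (f := F.subtype) hf''
    rw [Submodule.map_smul''] at this
    exact Submodule.smul_mono le_rfl (Submodule.map_comap_le _ _) this
  rw [show B = (⊤ : Submodule A (Coch p M V q)).map (dL p M V q) from (Submodule.map_top _).symm,
    ← Submodule.map_smul''] at h3
  obtain ⟨w, hw, hwf⟩ := h3
  refine ⟨z - u - w, by rw [map_sub, map_sub, hwf, ← hfb]; simp, ?_⟩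
  rw [show z - (z - u - w) = u + w by abel]
  exact add_mem (Submodule.smul_mono_left (Ideal.pow_le_pow_right (Nat.le_add_right _ _)) hu) hw

omit [IsNoetherianRing A] in
/-- Finite modules over a complete ring are complete. -/
theorem of_bijective_of_finite {A : Type u} [CommRing A] [IsNoetherianRing A] (I : Ideal A)
    [IsAdicComplete I A] (H : Type u) [AddCommGroup H] [Module A H] [Module.Finite A H] :
    Function.Bijective (AdicCompletion.of I H) := by
  refine ⟨(injective_iff_map_eq_zero _).2 fun x hx => ?_, fun z => ?_⟩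
  · have hmem : x ∈ (⨅ i : ℕ, I ^ i • ⊤ : Submodule A H) := Submodule.mem_iInf _ |>.2 fun i => by
      have := congrArg (fun t : AdicCompletion I H => t.val i) hx
      exact (Submodule.Quotient.mk_eq_zero _).1 this
    obtain ⟨⟨r, hr⟩, hrx⟩ := (I.mem_iInf_smul_pow_eq_bot_iff x).1 hmem
    obtain ⟨u, hu⟩ : IsUnit (1 - r) := by
      have hj := IsAdicComplete.le_jacobson_bot I hr
      simpa [neg_mul, sub_eq_neg_add] using Ideal.mem_jacobson_bot.1 hj (-1)
    have h0 : (1 - r) • x = 0 := by rw [sub_smul, one_smul, show r • x = x from hrx, sub_self]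
    rw [← hu, ← Units.smul_def] at h0
    simpa using congrArg (u⁻¹ • ·) h0
  · obtain ⟨t, rfl⟩ := (AdicCompletion.ofTensorProduct_bijective_of_finite_of_isNoetherian I H).2 z
    induction t using TensorProduct.induction_on with
    | zero => exact ⟨0, by rw [map_zero, map_zero]⟩
    | add s t hs ht =>
      obtain ⟨a, ha⟩ := hs
      obtain ⟨b, hb⟩ := ht
      exact ⟨a + b, by rw [map_add, map_add, ha, hb]⟩
    | tmul r h =>
      obtain ⟨s, rfl⟩ := (AdicCompletion.of_bijective I A).2 r
      refine ⟨s • h, ?_⟩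
      rw [AdicCompletion.ofTensorProduct_tmul, map_smul]
      refine AdicCompletion.ext fun n => ?_
      rfl

end Groth.Agent.FormalLib
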