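import Groth.Agent.FormalLib.Main
import Groth.Prelude.Def_Formal2

/-!
# Cohomology of `I^n M`
-/

set_option autoImplicit false

universe u

open CategoryTheory CategoryTheory.Limits AlgebraicGeometry TopologicalSpace Opposite
open Groth.Agent.CohBase Groth.Agent.ProjCoh

noncomputable section

namespace Groth.Agent.FormalLib

variable {A : Type u} [CommRing A] [IsNoetherianRing A] {X : Scheme.{u}}
  [X.Over (Spec (CommRingCat.of A))] (I : Ideal A) {ι : Type u} [Finite ι] (V : ι → X.Opens)
  (haff : ∀ (m : ℕ) (i : Fin (m + 1) → ι), IsAffineOpen (inter V i))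

theorem isQCoh_idealPowMod (n : ℕ) (M : X.Modules) (hM : Coh.IsQCoh M) :
    Coh.IsQCoh (Formal2.idealPowMod I n M) :=
  (QCohLib.isQCoh_image (Formal.modPowπ I n M) hM (isQCoh_modPow I n M hM)).1

omit [IsNoetherianRing A] [Finite ι] in
lemma cochMap_comp {N N' N'' : X.Modules} (f : N ⟶ N') (g : N' ⟶ N'') (q : ℕ) (z : Coch (str A X) N V q) :
    cochMap V (f ≫ g) q z = cochMap V g q (cochMap V f q z) := rfl

omit [IsNoetherianRing A] [Finite ι] in
lemma incl_ι {m n : ℕ} (h : m ≤ n) (M : X.Modules) :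
    Formal2.idealPowIncl I h M ≫ Formal2.idealPowModι I m M = Formal2.idealPowModι I n M :=
  kernel.lift_ι _ _ _

omit [IsNoetherianRing A] [Finite ι] in
lemma cochMap_ι_injective (n q : ℕ) (M : X.Modules) :
    Function.Injective (cochMap (A := A) V (Formal2.idealPowModι I n M) q) := fun z w h => funext fun i => by
  haveI : Mono ((QCohLib.toAbF X).map (Formal2.idealPowModι I n M)) :=
    (QCohLib.toAbF X).map_mono _
  exact sections_injective ((QCohLib.toAbF X).map (Formal2.idealPowModι I n M)) _ (congrFun h i)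

include haff in
lemma exists_lift (n q : ℕ) (M : X.Modules) [Coh.IsQCoh M] {c : Coch (str A X) M V q}
    (hc : c ∈ I ^ n • (⊤ : Submodule A (Coch (str A X) M V q))) :
    ∃ w, cochMap (A := A) V (Formal2.idealPowModι I n M) q w = c := by
  have h := (cochMap_π_eq_zero_iff V I M haff n q c).2 hc
  choose w hw using fun i => QCohLib.kernel_app_exact (Formal.modPowπ I n M) (inter V i) (c i) (congrFun h i)
  exact ⟨w, funext hw⟩

include haff in
lemma cochMap_ι_mem (n q : ℕ) (M : X.Modules) [Coh.IsQCoh M] (w : Coch (str A X) (Formal2.idealPowMod I n M) V q) :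
    cochMap (A := A) V (Formal2.idealPowModι I n M) q w ∈ I ^ n • (⊤ : Submodule A (Coch (str A X) M V q)) := by
  refine (cochMap_π_eq_zero_iff V I M haff n q _).1 (funext fun i => ?_)
  exact congr(($(kernel.condition (Formal.modPowπ I n M))).app (inter V i) (w i))

variable [IsProper (X ↘ Spec (CommRingCat.of A))] {M : X.Modules} (hM : Coh.IsCoh M) (p : ℕ)

include hM

omit haff [Finite ι] in
/-- Kernels into `M` are kernels into a nearby power. -/
theorem exists_ker_stable : ∃ c : ℕ, ∀ (n : ℕ) (h : c ≤ n),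
    (Sheaf.H.map ((SheafOfModules.toSheaf _).map (Formal2.idealPowModι I n M)) p).ker =
      (Sheaf.H.map ((SheafOfModules.toSheaf _).map (Formal2.idealPowIncl I (Nat.sub_le n c) M)) p).ker := by
  haveI := hM.1
  obtain ⟨ι', hι, V', hcov, haff'⟩ := exists_affine_cover (str A X)
  haveI := hι
  haveI : ∀ n, Coh.IsQCoh (Formal2.idealPowMod I n M) := fun n => isQCoh_idealPowMod I n M hM.1
  have key : ∃ c : ℕ, ∀ n, c ≤ n → ∀ x, Sheaf.H.map ((SheafOfModules.toSheaf _).map (Formal2.idealPowModι I n M)) p x = 0 →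
      Sheaf.H.map ((SheafOfModules.toSheaf _).map (Formal2.idealPowIncl I (Nat.sub_le n c) M)) p x = 0 := by
    cases p with
    | zero =>
      refine ⟨0, fun n _ x hx => ?_⟩
      obtain ⟨z, rfl⟩ := cls_surjective (A := A) V' hcov haff' (Formal2.idealPowMod I n M) 0 x
      rw [cls_natural V' hcov haff', cls_eq_zero_iff] at hx
      have hz : z = 0 := Subtype.ext (cochMap_ι_injective I V' n 0 M (hx.trans (map_zero _).symm))
      rw [hz, map_zero, map_zero]
    | succ s =>
      obtain ⟨c, hc⟩ := exists_cocycle_near (str A X) M V' hM hcov haff' I s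
      refine ⟨c, fun n hn x hx => ?_⟩
      obtain ⟨z, rfl⟩ := cls_surjective (A := A) V' hcov haff' (Formal2.idealPowMod I n M) (s + 1) x
      rw [cls_natural V' hcov haff', cls_eq_zero_iff] at hx
      obtain ⟨b, -, hb⟩ := hx
      obtain ⟨y, hy, hby⟩ := hc (n - c) b (by
        rw [hb, Nat.sub_add_cancel hn]
        exact cochMap_ι_mem I V' haff' n (s + 1) M z.1)
      obtain ⟨b', hb'⟩ := exists_lift I V' haff' (n - c) s M hby
      rw [cls_natural V' hcov haff', cls_eq_zero_iff]
      refine ⟨b', ?_, ?_⟩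
      · rw [pow_zero, Ideal.one_eq_top, Submodule.top_smul]
        trivial
      · apply cochMap_ι_injective I V' (n - c) (s + 1) M
        rw [← dL_cochMap, hb', map_sub, hy, sub_zero, hb, ← cochMap_comp, incl_ι]
  obtain ⟨c, hc⟩ := key
  refine ⟨c, fun n hn => le_antisymm (fun x hx => hc n hn x hx) fun x hx => ?_⟩
  rw [AddMonoidHom.mem_ker] at hx ⊢
  refine (congrArg (fun f => Sheaf.H.map f p x) ((congrArg (SheafOfModules.toSheaf X.ringCatSheaf).map
    (incl_ι I (Nat.sub_le n c) M).symm).trans ((SheafOfModules.toSheaf X.ringCatSheaf).map_comp _ _))).trans ?_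
  show Sheaf.H.map _ p x = 0
  rw [Sheaf.H.map_comp_apply, hx, map_zero]

omit haff [Finite ι] in
/-- Images of high powers. -/
theorem exists_range_bound : ∃ c : ℕ, ∀ (n m : ℕ), c ≤ n + m →
    Set.range (Sheaf.H.map ((SheafOfModules.toSheaf _).map (Formal2.idealPowIncl I (Nat.le_add_right n m) M)) p) ⊆
      SetLike.coe (I ^ (m - (c - n)) • (⊤ : Submodule A (Coh.HH X (Formal2.idealPowMod I n M) p))) := by
  haveI := hM.1
  obtain ⟨ι', hι, V', hcov, haff'⟩ := exists_affine_cover (str A X)
  haveI := hι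
  haveI : ∀ n, Coh.IsQCoh (Formal2.idealPowMod I n M) := fun n => isQCoh_idealPowMod I n M hM.1
  obtain ⟨c, hc⟩ := exists_cyc_stable (str A X) M V' hM hcov haff' I p
  refine ⟨c, fun n m hnm => ?_⟩
  rintro _ ⟨x, rfl⟩
  obtain ⟨z, rfl⟩ := cls_surjective (A := A) V' hcov haff' (Formal2.idealPowMod I (n + m) M) p x
  rw [cls_natural V' hcov haff']
  let K := LinearMap.ker (dL (str A X) (Formal2.idealPowMod I n M) V' p)
  let φ := (cochMap (A := A) V' (Formal2.idealPowModι I n M) p).comp K.subtype
  have hφ : Function.Injective φ := (cochMap_ι_injective I V' n p M).comp Subtype.val_injective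
  let w : K := ⟨cochMap V' (Formal2.idealPowIncl I (Nat.le_add_right n m) M) p z.1, by
    rw [LinearMap.mem_ker, dL_cochMap, LinearMap.mem_ker.1 z.2, map_zero]⟩
  have hwz : φ w = cochMap V' (Formal2.idealPowModι I (n + m) M) p z.1 := by
    show cochMap V' _ p (cochMap V' _ p z.1) = _
    rw [← cochMap_comp]
    exact congrArg (fun f => cochMap V' f p z.1) (incl_ι I (Nat.le_add_right n m) M)
  have hcyc : cyc (str A X) M V' I p n ≤ LinearMap.range φ := by
    rintro y ⟨hy1, hy2⟩
    obtain ⟨v, hv⟩ := exists_lift I V' haff' n p M hy2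
    refine ⟨⟨v, ?_⟩, hv⟩
    apply cochMap_ι_injective I V' n (p + 1) M
    rw [← dL_cochMap, hv, LinearMap.mem_ker.1 hy1, map_zero]
  obtain ⟨y, hy, b, hb, hyb⟩ := Submodule.mem_sup.1 (hc (n + m) hnm (show φ w ∈ cyc (str A X) M V' I p (n + m) from by
    rw [hwz]
    exact ⟨by rw [SetLike.mem_coe, LinearMap.mem_ker, dL_cochMap, LinearMap.mem_ker.1 z.2, map_zero],
      cochMap_ι_mem I V' haff' (n + m) p M z.1⟩))
  have hy' : y ∈ Submodule.map φ (I ^ (m - (c - n)) • ⊤) := by
    rw [Submodule.map_smul'', Submodule.map_top]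
    refine Submodule.smul_mono le_rfl hcyc ?_
    rw [show n + m - c = (m - (c - n)) + (n - c) by omega, pow_add, Submodule.mul_smul] at hy
    refine Submodule.smul_mono le_rfl ?_ hy
    refine Submodule.smul_le.2 fun a ha v hv => ⟨?_, ?_⟩
    · exact Submodule.smul_mem _ a hv.1
    · rcases le_total c n with h | h
      · have := Submodule.smul_mem_smul ha hv.2
        rwa [← Submodule.mul_smul, ← pow_add, Nat.sub_add_cancel h] at this
      · exact Submodule.smul_mem _ a (Submodule.smul_mono (Ideal.pow_le_pow_right h) le_rfl hv.2)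
  obtain ⟨v, hv, hvy⟩ := hy'
  have hzero : cls (A := A) V' hcov haff' (Formal2.idealPowMod I n M) p (w - v) = 0 := by
    rw [cls_eq_zero_iff]
    have hwv : φ (w - v) = b := by
      rw [map_sub, hvy, ← hyb, add_sub_cancel_left]
    cases p with
    | zero =>
      show (w - v).1 ∈ (⊥ : Submodule A _)
      have hb' : b = 0 := hb
      rw [Submodule.mem_bot]
      exact cochMap_ι_injective I V' n 0 M ((hwv.trans hb').trans (map_zero _).symm)
    | succ s =>
      obtain ⟨b', hb', rfl⟩ := hb
      obtain ⟨b'', hb''⟩ := exists_lift I V' haff' n s M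
        (Submodule.smul_mono (Ideal.pow_le_pow_right (Nat.le_add_right n m)) le_rfl hb')
      refine ⟨b'', ?_, ?_⟩
      · rw [pow_zero, Ideal.one_eq_top, Submodule.top_smul]
        trivial
      · apply cochMap_ι_injective I V' n (s + 1) M
        rw [← dL_cochMap, hb'']
        exact hwv.symm
  rw [map_sub, sub_eq_zero] at hzero
  show cls (A := A) V' hcov haff' (Formal2.idealPowMod I n M) p w ∈ _
  rw [hzero]
  have := Submodule.mem_map_of_mem (f := cls (A := A) V' hcov haff' (Formal2.idealPowMod I n M) p) hv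
  rw [Submodule.map_smul''] at this
  exact Submodule.smul_mono le_rfl le_top this

end Groth.Agent.FormalLib
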