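import Groth.Agent.FormalLib.AffineLine
import Groth.Agent.FormalLib.ModPow
import Groth.Agent.ProperFin.Main
import Mathlib.Algebra.Polynomial.Module.Basic

/-!
# The Rees module of a coherent module as a coherent sheaf
-/

set_option autoImplicit false
set_option backward.defeqAttrib.useBackward true

universe u

open CategoryTheory CategoryTheory.Limits AlgebraicGeometry TopologicalSpace Opposite
open Groth.Agent.CohBase Groth.Agent.ProjCoh

noncomputable section

namespace Groth.Agent.FormalLib.Rees

variable {A : Type u} [CommRing A] {X : Scheme.{u}} (p : X ⟶ Spec (CommRingCat.of A))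
  {r : ℕ} (a : Fin r → A)

/-- The substitution `Xᵢ ↦ aᵢ T`. -/
def tau : MvPolynomial (Fin r) A →+* Polynomial A :=
  (MvPolynomial.aeval fun i => Polynomial.C (a i) * Polynomial.X).toRingHom

lemma tau_comp_C : (tau a).comp MvPolynomial.C = Polynomial.C := by
  ext c
  simp [tau]

/-- The base change of `X` to the polynomial ring. -/
abbrev XP (r : ℕ) : Scheme.{u} :=
  pullback p (Spec.map (CommRingCat.ofHom (MvPolynomial.C : A →+* MvPolynomial (Fin r) A)))

/-- The projection. -/
abbrev gP (r : ℕ) : XP p r ⟶ X := pullback.fst _ _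

/-- The structure map. -/
abbrev pP (r : ℕ) : XP p r ⟶ Spec (CommRingCat.of (MvPolynomial (Fin r) A)) := pullback.snd _ _

/-- The affine line over `X`. -/
abbrev Line : Scheme.{u} := pullback p (Spec.map (CommRingCat.ofHom (Polynomial.C : A →+* Polynomial A)))

/-- The structure map. -/
abbrev pY : Line p ⟶ Spec (CommRingCat.of (Polynomial A)) := pullback.snd _ _

/-- The map from the affine line. -/
def toXP : Line p ⟶ XP p r :=
  pullback.lift (pullback.fst _ _) (pullback.snd _ _ ≫ Spec.map (CommRingCat.ofHom (tau a))) (by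
    rw [Category.assoc, ← Spec.map_comp, ← CommRingCat.ofHom_comp, tau_comp_C]
    exact pullback.condition)

/-- The projection of the line. -/
abbrev fY : Line p ⟶ X := toXP p a ≫ gP p r

lemma fY_eq : fY p a = pullback.fst _ _ := pullback.lift_fst _ _ _

lemma isPullback_fY : IsPullback (fY p a) (pY p) p (Spec.map (CommRingCat.ofHom Polynomial.C)) := by
  rw [fY_eq]
  exact IsPullback.of_hasPullback _ _

variable [IsProper p] (M : X.Modules)

instance isAffineHom_gP : IsAffineHom (gP p r) := MorphismProperty.pullback_fst _ _ inferInstance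

instance : IsAffineHom (toXP p a) := by
  haveI : IsAffineHom (toXP p a ≫ gP p r) := by
    rw [show toXP p a ≫ gP p r = pullback.fst _ _ from fY_eq p a]
    exact MorphismProperty.pullback_fst _ _ inferInstance
  exact IsAffineHom.of_comp _ (gP p r)

/-- The inverse image on the product. -/
abbrev MP (r : ℕ) : (XP p r).Modules := (Scheme.Modules.pullback (gP p r)).obj M

/-- The inverse image on the line. -/
abbrev LY : (Line p).Modules := (Scheme.Modules.pullback (toXP p a)).obj (MP p M r)

/-- The unit. -/
def unitMap : MP p M r ⟶ (Scheme.Modules.pushforward (toXP p a)).obj (LY p a M) :=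
  (Scheme.Modules.pullbackPushforwardAdjunction (toXP p a)).unit.app (MP p M r)

/-- The Rees module. -/
def N : (XP p r).Modules := cokernel (kernel.ι (unitMap p a M))

/-- Its embedding. -/
def nu : N p a M ⟶ (Scheme.Modules.pushforward (toXP p a)).obj (LY p a M) :=
  (Abelian.coimageIsoImage (unitMap p a M)).hom ≫ Abelian.image.ι _

/-- Its presentation. -/
def qN : MP p M r ⟶ N p a M := cokernel.π _

lemma qN_nu : qN p a M ≫ nu p a M = unitMap p a M := Abelian.coimage_image_factorisation _

instance : Mono (nu p a M) := mono_comp _ _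

lemma isQCoh_target [Coh.IsQCoh M] :
    Coh.IsQCoh ((Scheme.Modules.pushforward (toXP p a)).obj (LY p a M)) :=
  haveI := PullbackMod.isQCoh_pullback (gP p r) M
  haveI := PullbackMod.isQCoh_pullback (toXP p a) (MP p M r)
  QCohLib.isQCoh_pushforward _ (toXP p a)

lemma isQCoh_kernel [Coh.IsQCoh M] : Coh.IsQCoh (kernel (unitMap p a M)) :=
  (QCohLib.isQCoh_image (unitMap p a M) (PullbackMod.isQCoh_pullback (gP p r) M) (isQCoh_target p a M)).1

lemma isQCoh_N [Coh.IsQCoh M] : Coh.IsQCoh (N p a M) :=
  (QCohLib.isQCoh_image (kernel.ι (unitMap p a M)) (isQCoh_kernel p a M)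
    (PullbackMod.isQCoh_pullback (gP p r) M)).2

lemma qN_surjective [Coh.IsQCoh M] {W : (XP p r).Opens} (hW : IsAffineOpen W) :
    Function.Surjective ((qN p a M).app W) :=
  (cokernel_app (kernel.ι (unitMap p a M)) (isQCoh_kernel p a M)
    (PullbackMod.isQCoh_pullback (gP p r) M) hW).1

lemma isCoh_N (hM : Coh.IsCoh M) : Coh.IsCoh (N p a M) := by
  haveI := hM.1
  haveI := isQCoh_N p a M
  refine QCohLib.isCoh_of_finite _ fun W hW => ?_
  haveI := QCohLib.finite_sections_of_isCoh (PullbackMod.isCoh_pullback (gP p r) M hM) hW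
  exact Module.Finite.of_surjective (PullbackMod.appLin (qN p a M) W) (qN_surjective p a M hW)

lemma nu_injective (W : (XP p r).Opens) : Function.Injective ((nu p a M).app W) :=
  haveI : Mono ((QCohLib.toAbF (XP p r)).map (nu p a M)) := (QCohLib.toAbF (XP p r)).map_mono _
  sections_injective ((QCohLib.toAbF (XP p r)).map (nu p a M)) W

section Affine

variable (U : X.Opens)

/-- The coordinate on the line. -/
abbrev T : Γ(Line p, fY p a ⁻¹ᵁ U) := coordT (pY p) _

/-- The pullback of sections to the line. -/
def up : Γ(M, U) →+ Γ(LY p a M, fY p a ⁻¹ᵁ U) :=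
  (PullbackMod.pullMap (toXP p a) (MP p M r) (W := gP p r ⁻¹ᵁ U) le_rfl).comp
    (PullbackMod.pullMap (gP p r) M (W := U) le_rfl)

lemma up_smul (c : Γ(X, U)) (m : Γ(M, U)) :
    up p a M U (c • m) = (fY p a).app U c • up p a M U m := by
  show PullbackMod.pullMap _ _ _ (PullbackMod.pullMap _ _ _ (c • m)) = _
  rw [PullbackMod.pullMap_smul, PullbackMod.pullMap_smul]
  refine congrArg (· • _) ?_
  rw [← Scheme.Hom.app_eq_appLE, ← Scheme.Hom.app_eq_appLE]
  rfl

/-- Expansions along the powers of the coordinate. -/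
def expand : (ℕ →₀ Γ(M, U)) →+ Γ(LY p a M, fY p a ⁻¹ᵁ U) :=
  Finsupp.liftAddHom fun j => (DistribSMul.toAddMonoidHom _ (T p a U ^ j)).comp (up p a M U)

lemma expand_single (j : ℕ) (m : Γ(M, U)) :
    expand p a M U (Finsupp.single j m) = T p a U ^ j • up p a M U m :=
  Finsupp.liftAddHom_apply_single _ _ _

lemma expand_shift (c : ℕ →₀ Γ(M, U)) :
    expand p a M U (c.mapDomain (· + 1)) = T p a U • expand p a M U c := by
  induction c using Finsupp.induction_linear with
  | zero => rw [Finsupp.mapDomain_zero, map_zero]; exact (smul_zero (T p a U)).symm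
  | add f g hf hg => rw [Finsupp.mapDomain_add, map_add, map_add, hf, hg, smul_add]
  | single j m => rw [Finsupp.mapDomain_single, expand_single, expand_single, pow_succ', mul_smul]

lemma expand_smul (s : Γ(X, U)) (c : ℕ →₀ Γ(M, U)) :
    expand p a M U (c.mapRange (s • ·) (smul_zero s)) = (fY p a).app U s • expand p a M U c := by
  induction c using Finsupp.induction_linear with
  | zero => rw [Finsupp.mapRange_zero, map_zero]; exact (smul_zero ((fY p a).app U s)).symm
  | add f g hf hg => rw [Finsupp.mapRange_add (fun x y => smul_add s x y), map_add, map_add, hf, hg, smul_add]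
  | single j m => rw [Finsupp.mapRange_single, expand_single, expand_single, up_smul, smul_comm]

lemma up_res {U' : X.Opens} (h : U' ≤ U) (m : Γ(M, U)) :
    (LY p a M).presheaf.map (homOfLE ((fY p a).preimage_mono h)).op (up p a M U m) =
      up p a M U' (M.presheaf.map (homOfLE h).op m) := by
  show res (LY p a M).presheaf _ (res (LY p a M).presheaf _ _) = res (LY p a M).presheaf _ _
  rw [res_res]
  have e1 : PullbackMod.pullMap (gP p r) M (W := U') le_rfl (M.presheaf.map (homOfLE h).op m) =
      (MP p M r).presheaf.map (homOfLE ((gP p r).preimage_mono h)).op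
        (PullbackMod.pullMap (gP p r) M (W := U) le_rfl m) := by
    show res (MP p M r).presheaf _ _ = res (MP p M r).presheaf _ (res (MP p M r).presheaf _ _)
    rw [res_res]
    refine (congrArg (res (MP p M r).presheaf _) (QCohLib.app_res _ h m)).trans ?_
    exact res_res (MP p M r).presheaf _ _ _
  rw [e1]
  refine Eq.symm ((congrArg (res (LY p a M).presheaf _) (QCohLib.app_res _ ((gP p r).preimage_mono h) _)).trans ?_)
  exact res_res (LY p a M).presheaf _ _ _

variable {U}

/-- Expansions are unique. -/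
theorem expand_bijective [Coh.IsQCoh M] (hU : IsAffineOpen U) : Function.Bijective (expand p a M U) := by
  let W := gP p r ⁻¹ᵁ U
  let WY := fY p a ⁻¹ᵁ U
  have hW : IsAffineOpen W := hU.preimage (gP p r)
  have hWY : IsAffineOpen WY := hW.preimage (toXP p a)
  haveI := PullbackMod.isQCoh_pullback (gP p r) M
  have h1 := PullbackMod.isBaseChange_pullMapL (gP p r) M hU hW le_rfl
  have h2 := PullbackMod.isBaseChange_pullMapL (toXP p a) (MP p M r) hW hWY le_rfl
  letI : Algebra Γ(X, U) Γ(XP p r, W) := ((gP p r).appLE U W le_rfl).hom.toAlgebra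
  letI : Algebra Γ(XP p r, W) Γ(Line p, WY) := ((toXP p a).appLE W WY le_rfl).hom.toAlgebra
  letI : Algebra Γ(X, U) Γ(Line p, WY) :=
    (((toXP p a).appLE W WY le_rfl).hom.comp ((gP p r).appLE U W le_rfl).hom).toAlgebra
  haveI : IsScalarTower Γ(X, U) Γ(XP p r, W) Γ(Line p, WY) := .of_algebraMap_eq' rfl
  letI := Module.compHom Γ(MP p M r, W) ((gP p r).appLE U W le_rfl).hom
  haveI : IsScalarTower Γ(X, U) Γ(XP p r, W) Γ(MP p M r, W) := .of_algebraMap_smul fun _ _ => rfl
  letI := Module.compHom Γ(LY p a M, WY) ((toXP p a).appLE W WY le_rfl).hom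
  haveI : IsScalarTower Γ(XP p r, W) Γ(Line p, WY) Γ(LY p a M, WY) := .of_algebraMap_smul fun _ _ => rfl
  letI := Module.compHom Γ(LY p a M, WY) (((toXP p a).appLE W WY le_rfl).hom.comp ((gP p r).appLE U W le_rfl).hom)
  haveI : IsScalarTower Γ(X, U) Γ(Line p, WY) Γ(LY p a M, WY) := .of_algebraMap_smul fun _ _ => rfl
  haveI : IsScalarTower Γ(X, U) Γ(XP p r, W) Γ(LY p a M, WY) := .of_algebraMap_smul fun _ _ => rfl
  have hbc := h1.comp h2
  have halg : ∀ c, algebraMap Γ(X, U) Γ(Line p, WY) c = (fY p a).app U c := fun c => by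
    show (toXP p a).appLE (gP p r ⁻¹ᵁ U) (toXP p a ⁻¹ᵁ (gP p r ⁻¹ᵁ U)) le_rfl
      ((gP p r).appLE U (gP p r ⁻¹ᵁ U) le_rfl c) = _
    rw [← Scheme.Hom.app_eq_appLE, ← Scheme.Hom.app_eq_appLE]
    rfl
  let ε := RingEquiv.ofBijective (polySec (fY p a) (pY p) U) (polySec_bijective (isPullback_fY p a) hU)
  have hεC : ∀ c, ε.symm ((fY p a).app U c) = Polynomial.C c := fun c =>
    ε.symm_apply_eq.2 (Polynomial.eval₂_C _ _).symm
  letI : Module Γ(Line p, WY) (PolynomialModule Γ(X, U) Γ(M, U)) :=
    Module.compHom _ ε.symm.toRingHom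
  haveI : IsScalarTower Γ(X, U) Γ(Line p, WY) (PolynomialModule Γ(X, U) Γ(M, U)) :=
    .of_algebraMap_smul fun c x => by
      show ε.symm (algebraMap Γ(X, U) Γ(Line p, WY) c) • x = c • x
      rw [halg, hεC, ← Polynomial.algebraMap_eq, algebraMap_smul]
  let Φ := hbc.lift (PolynomialModule.lsingle Γ(X, U) (M := Γ(M, U)) 0)
  have hΦ : ∀ c, Φ (expand p a M U c) = PolynomialModule.ofCoeff Γ(X, U) c := fun c => by
    induction c using Finsupp.induction_linear with
    | zero => exact (congrArg Φ (map_zero _)).trans ((map_zero Φ).trans rfl)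
    | add f g hf hg => rw [map_add, map_add, hf, hg]; rfl
    | single j m =>
      rw [expand_single, map_smul]
      show ε.symm (T p a U ^ j) • Φ (up p a M U m) = _
      rw [map_pow, show ε.symm (T p a U) = Polynomial.X from ε.symm_apply_eq.2 (Polynomial.eval₂_X _ _).symm,
        show Φ (up p a M U m) = PolynomialModule.lsingle Γ(X, U) 0 m from hbc.lift_eq _ m,
        Polynomial.X_pow_eq_monomial]
      erw [PolynomialModule.monomial_smul_single]
      rw [add_zero, one_smul]
      rfl
  refine ⟨fun c c' h => ?_, fun z => ?_⟩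
  · have := (hΦ c).symm.trans ((congrArg Φ h).trans (hΦ c'))
    exact congrArg PolynomialModule.coeff this
  · induction z using hbc.inductionOn with
    | zero => exact ⟨0, map_zero _⟩
    | tmul m => exact ⟨Finsupp.single 0 m, by rw [expand_single, pow_zero, one_smul]; rfl⟩
    | smul s n hn =>
      obtain ⟨c, rfl⟩ := hn
      obtain ⟨P, rfl⟩ := ε.surjective s
      induction P using Polynomial.induction_on generalizing c with
      | C b => exact ⟨c.mapRange (b • ·) (smul_zero b), (expand_smul p a M U b c).trans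
          (congrArg (· • _) (Polynomial.eval₂_C _ _).symm)⟩
      | add P Q hP hQ =>
        obtain ⟨x, hx⟩ := hP c
        obtain ⟨y, hy⟩ := hQ c
        exact ⟨x + y, by rw [map_add, hx, hy, map_add, add_smul]⟩
      | monomial n b ih =>
        obtain ⟨x, hx⟩ := ih c
        refine ⟨x.mapDomain (· + 1), ?_⟩
        rw [expand_shift, hx, ← mul_smul]
        refine congrArg (· • expand p a M U c) ?_
        rw [pow_succ, ← mul_assoc]
        refine Eq.trans ?_ (map_mul ε (Polynomial.C b * Polynomial.X ^ n) Polynomial.X).symm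
        rw [mul_comm]
        refine congrArg (fun t : Γ(Line p, WY) => ε (Polynomial.C b * Polynomial.X ^ n) * t) ?_
        exact (Polynomial.eval₂_X (fY p a |>.app U).hom (T p a U)).symm
    | add x y hx hy =>
      obtain ⟨cx, rfl⟩ := hx
      obtain ⟨cy, rfl⟩ := hy
      exact ⟨cx + cy, map_add _ _ _⟩

end Affine

end Groth.Agent.FormalLib.Rees
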