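import Groth.Agent.FormalLib.Rees

/-!
# Finiteness of the Rees module of Čech cohomology
-/

set_option autoImplicit false
set_option backward.defeqAttrib.useBackward true

universe u

open CategoryTheory CategoryTheory.Limits AlgebraicGeometry TopologicalSpace Opposite
open Groth.Agent.CohBase Groth.Agent.ProjCoh

noncomputable section

namespace Groth.Agent.FormalLib

variable {A : Type u} [CommRing A] {X : Scheme.{u}} (p : X ⟶ Spec (CommRingCat.of A))
  (M : X.Modules) {ι : Type u} (V : ι → X.Opens)

/-- Cochains with values in `A`-modules. -/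
abbrev Coch (q : ℕ) : Type u := ∀ i : Fin (q + 1) → ι, Sec (Coh.toGlobal p) M (inter V i)

/-- The differential, linear over the constants. -/
def dL (q : ℕ) : Coch p M V q →ₗ[A] Coch p M V (q + 1) :=
  LinearMap.pi fun i => ∑ j : Fin (q + 2), (-1 : ℤ) ^ (j : ℕ) •
    (secRes (Coh.toGlobal p) M (inter_comp_le V i j.succAbove)).comp (LinearMap.proj (i ∘ j.succAbove))

lemma dL_eq (q : ℕ) (c : Coch p M V q) : dL p M V q c = cdiff V (Coh.toAb M).obj q c := by
  funext i
  simp only [dL, LinearMap.pi_apply, LinearMap.coe_sum, Finset.sum_apply]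
  exact Finset.sum_congr rfl fun j _ => rfl

/-- Boundaries of cochains in `I^k`. -/
def bdry (I : Ideal A) : ∀ q : ℕ, ℕ → Submodule A (Coch p M V q)
  | 0, _ => ⊥
  | q + 1, k => (I ^ k • (⊤ : Submodule A (Coch p M V q))).map (dL p M V q)

lemma mem_smul_top_iff [Finite ι] (J : Ideal A) {q : ℕ} (c : Coch p M V q) :
    c ∈ J • (⊤ : Submodule A (Coch p M V q)) ↔
      ∀ i, c i ∈ J • (⊤ : Submodule A (Sec (Coh.toGlobal p) M (inter V i))) := by
  classical
  cases nonempty_fintype ι
  refine ⟨fun h i => ?_, fun h => ?_⟩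
  · have := Submodule.mem_map_of_mem (f := LinearMap.proj i) h
    rw [Submodule.map_smul''] at this
    exact Submodule.smul_mono le_rfl le_top this
  · rw [← Finset.univ_sum_single c]
    refine Submodule.sum_mem _ fun i _ => ?_
    have := Submodule.mem_map_of_mem
      (f := LinearMap.single A (fun i => Sec (Coh.toGlobal p) M (inter V i)) i) (h i)
    rw [Submodule.map_smul''] at this
    exact Submodule.smul_mono le_rfl le_top this

namespace Rees

variable {r : ℕ} (a : Fin r → A) [IsProper p]

/-- The ideal. -/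
abbrev ideal : Ideal A := Ideal.span (Set.range a)

lemma toGlobal_specMap {B : Type u} [CommRing B] {Z : Scheme.{u}} (q : Z ⟶ Spec (CommRingCat.of B))
    {B' : Type u} [CommRing B'] (f : B' →+* B) (b : B') :
    Coh.toGlobal (q ≫ Spec.map (CommRingCat.ofHom f)) b = Coh.toGlobal q (f b) := by
  show ((Scheme.ΓSpecIso _).inv ≫ (q ≫ Spec.map (CommRingCat.ofHom f)).appTop) b = _
  rw [Scheme.Hom.comp_appTop, ← Scheme.ΓSpecIso_inv_naturality_assoc]
  rfl

/-- A parameter, on an open. -/
def glob (W : (XP p r).Opens) : MvPolynomial (Fin r) A →+* Γ(XP p r, W) := φV (Coh.toGlobal (pP p r)) W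

variable {U : X.Opens}

lemma app_glob (π : MvPolynomial (Fin r) A) (W : (XP p r).Opens) :
    (toXP p a).app W (glob p W π) =
      (Line p).presheaf.map (homOfLE (le_top : toXP p a ⁻¹ᵁ W ≤ ⊤)).op (Coh.toGlobal (pY p) (tau a π)) := by
  refine (congr($((toXP p a).naturality (homOfLE (le_top : W ≤ ⊤)).op) (Coh.toGlobal (pP p r) π))).trans ?_
  refine congrArg ((Line p).presheaf.map (homOfLE (le_top : toXP p a ⁻¹ᵁ W ≤ ⊤)).op) ?_
  have h := RingHom.congr_fun (toGlobal_comp (pP p r) (toXP p a)) π
  rw [show toXP p a ≫ pP p r = pY p ≫ Spec.map (CommRingCat.ofHom (tau a)) from pullback.lift_snd _ _ _,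
    toGlobal_specMap] at h
  exact h.symm

lemma fY_app_φV (b : A) (U : X.Opens) :
    (fY p a).app U (φV (Coh.toGlobal p) U b) =
      (Line p).presheaf.map (homOfLE (le_top : fY p a ⁻¹ᵁ U ≤ ⊤)).op
        (Coh.toGlobal (pY p) (Polynomial.C b)) := by
  refine (congr($((fY p a).naturality (homOfLE (le_top : U ≤ ⊤)).op) (Coh.toGlobal p b))).trans ?_
  refine congrArg ((Line p).presheaf.map (homOfLE (le_top : fY p a ⁻¹ᵁ U ≤ ⊤)).op) ?_
  have h := RingHom.congr_fun (toGlobal_comp p (fY p a)) b
  rw [(isPullback_fY p a).w, toGlobal_specMap] at h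
  exact h.symm

lemma gP_app_φV (b : A) (U : X.Opens) :
    glob p (gP p r ⁻¹ᵁ U) (MvPolynomial.C b) = (gP p r).app U (φV (Coh.toGlobal p) U b) := by
  refine Eq.symm ((congr($((gP p r).naturality (homOfLE (le_top : U ≤ ⊤)).op) (Coh.toGlobal p b))).trans ?_)
  refine congrArg ((XP p r).presheaf.map (homOfLE (le_top : gP p r ⁻¹ᵁ U ≤ ⊤)).op) ?_
  have h := RingHom.congr_fun (toGlobal_comp p (gP p r)) b
  rw [pullback.condition, toGlobal_specMap] at h
  exact h.symm

variable [Coh.IsQCoh M] (hU : IsAffineOpen U)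

/-- Coefficients of a section of the Rees module. -/
def coef : Γ(N p a M, gP p r ⁻¹ᵁ U) →+ (ℕ →₀ Γ(M, U)) :=
  (AddEquiv.ofBijective (expand p a M U) (expand_bijective p a M hU)).symm.toAddMonoidHom.comp
    ((nu p a M).app (gP p r ⁻¹ᵁ U)).hom

lemma expand_coef (w : Γ(N p a M, gP p r ⁻¹ᵁ U)) :
    expand p a M U (coef p M a hU w) = (nu p a M).app (gP p r ⁻¹ᵁ U) w :=
  (AddEquiv.ofBijective (expand p a M U) (expand_bijective p a M hU)).apply_symm_apply _

lemma coef_injective : Function.Injective (coef p M a hU) := fun w w' h => by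
  apply nu_injective p a M
  rw [← expand_coef p M a hU, h, expand_coef]

lemma nu_smul (c : Γ(XP p r, gP p r ⁻¹ᵁ U)) (w : Γ(N p a M, gP p r ⁻¹ᵁ U)) :
    ((nu p a M).app (gP p r ⁻¹ᵁ U) (c • w) : Γ(LY p a M, fY p a ⁻¹ᵁ U)) =
      (show Γ(Line p, fY p a ⁻¹ᵁ U) from (toXP p a).app (gP p r ⁻¹ᵁ U) c) •
        (show Γ(LY p a M, fY p a ⁻¹ᵁ U) from (nu p a M).app (gP p r ⁻¹ᵁ U) w) :=
  Scheme.Modules.Hom.app_smul (nu p a M) c w

lemma coef_const (s : Γ(X, U)) (w : Γ(N p a M, gP p r ⁻¹ᵁ U)) :
    coef p M a hU ((gP p r).app U s • w) = (coef p M a hU w).mapRange (s • ·) (smul_zero s) := by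
  apply (expand_bijective p a M hU).1
  rw [expand_coef, expand_smul, expand_coef, nu_smul]
  rfl

lemma coef_X (i : Fin r) (w : Γ(N p a M, gP p r ⁻¹ᵁ U)) :
    coef p M a hU (glob p (gP p r ⁻¹ᵁ U) (MvPolynomial.X i) • w) =
      ((coef p M a hU w).mapRange (φV (Coh.toGlobal p) U (a i) • ·) (smul_zero _)).mapDomain (· + 1) := by
  apply (expand_bijective p a M hU).1
  rw [expand_coef, expand_shift, expand_smul, expand_coef, nu_smul, smul_smul]
  refine congrArg (· • _) ?_
  rw [app_glob, fY_app_φV]
  show _ = coordT (pY p) _ * _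
  rw [coordT]
  refine Eq.trans ?_ (map_mul ((Line p).presheaf.map (homOfLE (le_top : fY p a ⁻¹ᵁ U ≤ ⊤)).op).hom _ _)
  refine congrArg ((Line p).presheaf.map (homOfLE (le_top : fY p a ⁻¹ᵁ U ≤ ⊤)).op) ?_
  refine Eq.trans ?_ (map_mul (Coh.toGlobal (pY p)) _ _)
  refine congrArg (Coh.toGlobal (pY p)) ?_
  exact (MvPolynomial.aeval_X _ i).trans (mul_comm _ _)

lemma coef_qN_pullMap (m : Γ(M, U)) :
    coef p M a hU ((qN p a M).app (gP p r ⁻¹ᵁ U) (PullbackMod.pullMap (gP p r) M le_rfl m)) =
      Finsupp.single 0 m := by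
  apply (expand_bijective p a M hU).1
  rw [expand_coef, expand_single, pow_zero, one_smul]
  refine (congr($(qN_nu p a M).app (gP p r ⁻¹ᵁ U) (PullbackMod.pullMap (gP p r) M le_rfl m))).trans ?_
  exact (restr_self (LY p a M) _ _).symm

lemma coef_res {U' : X.Opens} (hU' : IsAffineOpen U') (h : U' ≤ U) (w : Γ(N p a M, gP p r ⁻¹ᵁ U)) :
    coef p M a hU' ((N p a M).presheaf.map (homOfLE ((gP p r).preimage_mono h)).op w) =
      (coef p M a hU w).mapRange (fun m : Γ(M, U) => M.presheaf.map (homOfLE h).op m)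
        (by exact map_zero _) := by
  apply (expand_bijective p a M hU').1
  rw [expand_coef, QCohLib.app_res, ← expand_coef p M a hU w]
  generalize coef p M a hU w = c
  show (LY p a M).presheaf.map (homOfLE ((fY p a).preimage_mono h)).op (expand p a M U c) = _
  induction c using Finsupp.induction_linear with
  | zero =>
    rw [Finsupp.mapRange_zero, map_zero (expand p a M U), map_zero (expand p a M U')]
    exact map_zero ((LY p a M).presheaf.map (homOfLE ((fY p a).preimage_mono h)).op).hom
  | add f g hf hg =>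
    rw [Finsupp.mapRange_add (fun x y => map_add (M.presheaf.map (homOfLE h).op).hom x y), map_add, map_add,
      map_add, hf, hg]
  | single j m =>
    rw [Finsupp.mapRange_single, expand_single, expand_single, ← up_res p a M U h m]
    refine ((LY p a M).val.map_smul (homOfLE ((fY p a).preimage_mono h)).op _ _).trans ?_
    refine congrArg (· • _) ?_
    refine (map_pow ((Line p).presheaf.map (homOfLE ((fY p a).preimage_mono h)).op).hom _ j).trans ?_
    refine congrArg (· ^ j) ?_
    show (Line p).presheaf.map _ ((Line p).presheaf.map _ (Coh.toGlobal (pY p) Polynomial.X)) = _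
    rw [← CommRingCat.comp_apply, ← (Line p).presheaf.map_comp]
    rfl

/-- Expansions with coefficients in the powers of the ideal. -/
def Good (c : ℕ →₀ Γ(M, U)) : Prop :=
  ∀ j, toSec (Coh.toGlobal p) (c j) ∈
    ideal a ^ j • (⊤ : Submodule A (Sec (Coh.toGlobal p) M U))

/-- The coefficient of degree `j` lies in `I^j`. -/
theorem good_coef (w : Γ(N p a M, gP p r ⁻¹ᵁ U)) : Good p M a (coef p M a hU w) := by
  let W := gP p r ⁻¹ᵁ U
  have hW : IsAffineOpen W := hU.preimage (gP p r)
  let S : Subring Γ(XP p r, W) :=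
    { carrier := {c | ∀ w, Good p M a (coef p M a hU w) → Good p M a (coef p M a hU (c • w))}
      mul_mem' := fun {c d} hc hd w hw => by rw [mul_smul]; exact hc _ (hd w hw)
      one_mem' := fun w hw => by rwa [one_smul]
      add_mem' := fun {c d} hc hd w hw j => by
        rw [add_smul, map_add, Finsupp.add_apply]
        exact add_mem (hc w hw j) (hd w hw j)
      zero_mem' := fun w _ j => by
        rw [zero_smul, map_zero, Finsupp.zero_apply]
        exact zero_mem _
      neg_mem' := fun {c} hc w hw j => by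
        rw [neg_smul, map_neg, Finsupp.neg_apply]
        exact neg_mem (hc w hw j) }
  have hconst : ∀ s : Γ(X, U), (gP p r).app U s ∈ S := fun s w hw j => by
    rw [coef_const, Finsupp.mapRange_apply]
    have := Submodule.mem_map_of_mem (f := secMul (Coh.toGlobal p) M s) (hw j)
    rw [Submodule.map_smul''] at this
    exact Submodule.smul_mono le_rfl le_top this
  have hX : ∀ i, glob p W (MvPolynomial.X i) ∈ S := fun i w hw j => by
    rw [coef_X]
    cases j with
    | zero =>
      rw [Finsupp.mapDomain_notin_range _ _ (by simp)]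
      exact zero_mem _
    | succ j =>
      rw [Finsupp.mapDomain_apply (fun x y h => Nat.succ_injective h), Finsupp.mapRange_apply, pow_succ',
        Submodule.mul_smul]
      exact Submodule.smul_mem_smul (Ideal.subset_span ⟨i, rfl⟩) (hw j)
  have hglob : ∀ π, glob p W π ∈ S := fun π => by
    induction π using MvPolynomial.induction_on with
    | C b => rw [gP_app_φV]; exact hconst _
    | add x y hx hy => rw [map_add]; exact add_mem hx hy
    | mul_X x i hx => rw [map_mul]; exact mul_mem hx (hX i)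
  have hS : ∀ c, c ∈ S := fun c => by
    haveI : IsAffine W.toScheme := hW
    haveI : IsAffine U.toScheme := hU
    have hpb : IsPullback ((gP p r) ∣_ U) (W.ι ≫ pP p r) (U.ι ≫ p)
        (Spec.map (CommRingCat.ofHom MvPolynomial.C)) :=
      (isPullback_morphismRestrict (gP p r) U).paste_vert (IsPullback.of_hasPullback _ _)
    haveI : IsClosedImmersion (pullback.lift _ _ hpb.w) := by
      rw [show pullback.lift _ _ hpb.w = hpb.isoPullback.hom by
        apply pullback.hom_ext
        · rw [pullback.lift_fst]; exact hpb.isoPullback_hom_fst.symm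
        · rw [pullback.lift_snd]; exact hpb.isoPullback_hom_snd.symm]
      infer_instance
    have h := ProperFin.appTop_mem_closure _ _ _ _ hpb.w (W.topIso.inv c)
    let θ : Γ(W.toScheme, ⊤) →+* Γ(XP p r, W) := W.topIso.hom.hom
    suffices hle : Subring.closure (Set.range ((gP p r) ∣_ U).appTop ∪ Set.range (W.ι ≫ pP p r).appTop) ≤
        S.comap θ by
      have := hle h
      rw [Subring.mem_comap] at this
      rwa [show θ (W.topIso.inv c) = c from congr($(W.topIso.inv_hom_id) c)] at this
    refine Subring.closure_le.2 (Set.union_subset ?_ ?_)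
    · rintro _ ⟨s, rfl⟩
      show W.topIso.hom (((gP p r) ∣_ U).appTop s) ∈ S
      have key : ((gP p r) ∣_ U).appTop ≫ W.topIso.hom = U.topIso.hom ≫ (gP p r).app U := by
        rw [morphismRestrict_appTop, Scheme.Opens.topIso_hom, Scheme.Opens.topIso_hom]
        erw [(gP p r).naturality, Category.assoc, ← (XP p r).presheaf.map_comp]
        rfl
      rw [show W.topIso.hom (((gP p r) ∣_ U).appTop s) = (gP p r).app U (U.topIso.hom s) from
        congr($(key) s)]
      exact hconst _
    · rintro _ ⟨y, rfl⟩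
      obtain ⟨π, rfl⟩ := (ConcreteCategory.bijective_of_isIso
        (Scheme.ΓSpecIso (CommRingCat.of (MvPolynomial (Fin r) A))).inv).2 y
      show W.topIso.hom (Coh.toGlobal (W.ι ≫ pP p r) π) ∈ S
      rw [show Coh.toGlobal (W.ι ≫ pP p r) π = W.ι.appTop (Coh.toGlobal (pP p r) π) from
        RingHom.congr_fun (toGlobal_comp (pP p r) W.ι) π, Scheme.Opens.ι_appTop, ← CommRingCat.comp_apply,
        Scheme.Opens.topIso_hom]
      erw [← (XP p r).presheaf.map_comp]
      exact hglob π
  obtain ⟨m, rfl⟩ := qN_surjective p a M hW w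
  letI : Algebra Γ(X, U) Γ(XP p r, W) := ((gP p r).appLE U W le_rfl).hom.toAlgebra
  letI := Module.compHom Γ(MP p M r, W) ((gP p r).appLE U W le_rfl).hom
  haveI : IsScalarTower Γ(X, U) Γ(XP p r, W) Γ(MP p M r, W) := .of_algebraMap_smul fun _ _ => rfl
  induction m using (PullbackMod.isBaseChange_pullMapL (gP p r) M hU hW le_rfl).inductionOn with
  | zero =>
    intro j
    rw [map_zero, map_zero, Finsupp.zero_apply]
    exact zero_mem _
  | tmul m =>
    intro j
    rw [show (PullbackMod.pullMapL (gP p r) M _) m = PullbackMod.pullMap (gP p r) M le_rfl m from rfl,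
      coef_qN_pullMap]
    rcases eq_or_ne j 0 with rfl | hj
    · rw [pow_zero, Ideal.one_eq_top, Submodule.top_smul]
      trivial
    · rw [Finsupp.single_eq_of_ne hj]
      exact zero_mem _
  | smul s n hn =>
    rw [Scheme.Modules.Hom.app_smul]
    exact hS s _ hn
  | add x y hx hy =>
    intro j
    rw [map_add, map_add, Finsupp.add_apply]
    exact add_mem (hx j) (hy j)

/-- Every element of `I^j M` is a coefficient. -/
theorem exists_coef_single (j : ℕ) (m : Sec (Coh.toGlobal p) M U)
    (hm : m ∈ ideal a ^ j • (⊤ : Submodule A (Sec (Coh.toGlobal p) M U))) :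
    ∃ w, coef p M a hU w = Finsupp.single j m := by
  induction j generalizing m with
  | zero => exact ⟨_, coef_qN_pullMap p M a hU m⟩
  | succ j ih =>
    rw [pow_succ', Submodule.mul_smul] at hm
    induction hm using Submodule.smul_induction_on' with
    | add x _ y _ hx hy =>
      obtain ⟨w, hw⟩ := hx
      obtain ⟨w', hw'⟩ := hy
      exact ⟨w + w', (map_add _ w w').trans ((congrArg₂ (· + ·) hw hw').trans
        (Finsupp.single_add (M := Γ(M, U)) _ _ _).symm)⟩
    | smul b hb x hx =>
      obtain ⟨w, hw⟩ := ih x hx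
      induction hb using Submodule.span_induction with
      | mem b hb =>
        obtain ⟨i, rfl⟩ := hb
        refine ⟨glob p (gP p r ⁻¹ᵁ U) (MvPolynomial.X i) • w, ?_⟩
        rw [coef_X, hw]
        exact (congrArg (Finsupp.mapDomain (· + 1)) Finsupp.mapRange_single).trans Finsupp.mapDomain_single
      | zero => exact ⟨0, (map_zero _).trans ((congrArg (Finsupp.single _) (zero_smul A x)).trans
          (Finsupp.single_zero _)).symm⟩
      | add b c _ _ hb hc =>
        obtain ⟨u, hu⟩ := hb
        obtain ⟨v, hv⟩ := hc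
        exact ⟨u + v, (map_add _ u v).trans ((congrArg₂ (· + ·) hu hv).trans
          ((Finsupp.single_add (M := Γ(M, U)) _ _ _).symm.trans (congrArg (Finsupp.single _) (add_smul b c x).symm)))⟩
      | smul c b _ hb =>
        obtain ⟨u, hu⟩ := hb
        refine ⟨(gP p r).app U (φV (Coh.toGlobal p) U c) • u, ?_⟩
        rw [coef_const, hu]
        exact Finsupp.mapRange_single.trans (congrArg (Finsupp.single _) (mul_smul c b x).symm)

section Cochains

variable (haff : ∀ (m : ℕ) (i : Fin (m + 1) → ι), IsAffineOpen (inter V i))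

/-- Cochains of the Rees module. -/
abbrev NCoch (q : ℕ) : Type u := CC (ProperFin.preCov (gP p r) V) (Coh.toAb (N p a M)).obj q

/-- Coefficients of a cochain. -/
def coefC (k : ℕ) (q : ℕ) : NCoch p M V a q →+ Coch p M V q where
  toFun w i := toSec (Coh.toGlobal p)
    (coef p M a (haff q i) (res (N p a M).presheaf (ProperFin.inter_preCov (gP p r) V i).le (w i)) k)
  map_zero' := funext fun i => by
    show toSec (Coh.toGlobal p) (coef p M a (haff q i) (res (N p a M).presheaf _ (0 : Γ(N p a M, _))) k) = 0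
    rw [map_zero, map_zero]
    rfl
  map_add' w w' := funext fun i => by
    show toSec (Coh.toGlobal p) (coef p M a (haff q i)
      (res (N p a M).presheaf _ ((w i + w' i : Γ(N p a M, _)))) k) = _
    exact congrArg (fun t : ℕ →₀ Γ(M, inter V i) => toSec (Coh.toGlobal p) (t k))
      ((congrArg (coef p M a (haff q i)) (map_add (res (N p a M).presheaf
        (ProperFin.inter_preCov (gP p r) V i).le) (w i) (w' i))).trans (map_add _ _ _))

/-- Multiplication of cochains by a parameter. -/
def smC (π : MvPolynomial (Fin r) A) (q : ℕ) : NCoch p M V a q →+ NCoch p M V a q :=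
  ccMap (ProperFin.preCov (gP p r) V) (Coh.smulAb (N p a M) (Coh.toGlobal (pP p r) π)).hom q

lemma coefC_mem [Finite ι] (k q : ℕ) (w : NCoch p M V a q) :
    coefC p M V a haff k q w ∈ ideal a ^ k • (⊤ : Submodule A (Coch p M V q)) :=
  (mem_smul_top_iff p M V _ _).2 fun i => good_coef p M a (haff q i) _ k

lemma coefC_cdiff (k q : ℕ) (w : NCoch p M V a q) :
    coefC p M V a haff k (q + 1) (cdiff _ _ q w) = dL p M V q (coefC p M V a haff k q w) := by
  rw [dL_eq]
  funext i
  show toSec (Coh.toGlobal p) (coef p M a (haff (q + 1) i)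
    (res (N p a M).presheaf _ (cdiff (ProperFin.preCov (gP p r) V) (N p a M).presheaf q w i)) k) = _
  rw [cdiff_apply, map_sum, map_sum, Finsupp.finsetSum_apply, cdiff_apply]
  refine Finset.sum_congr rfl fun j _ => ?_
  rw [map_zsmul, map_zsmul, Finsupp.smul_apply]
  refine congrArg (fun t => (-1 : ℤ) ^ (j : ℕ) • t) ?_
  rw [res_res]
  refine (congrArg (fun t => coef p M a (haff (q + 1) i) t k) ?_).trans
    ((congr($(coef_res p M a (haff q (i ∘ j.succAbove)) (haff (q + 1) i) (inter_comp_le V i j.succAbove)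
      (res (N p a M).presheaf (ProperFin.inter_preCov (gP p r) V (i ∘ j.succAbove)).le (w (i ∘ j.succAbove)))) k)).trans
      (Finsupp.mapRange_apply ..))
  exact (res_res (N p a M).presheaf _ _ _).symm

lemma coefC_ext (q : ℕ) (w w' : NCoch p M V a q)
    (h : ∀ k, coefC p M V a haff k q w = coefC p M V a haff k q w') : w = w' := by
  funext i
  have h' : res (N p a M).presheaf (ProperFin.inter_preCov (gP p r) V i).le (w i) =
      res (N p a M).presheaf (ProperFin.inter_preCov (gP p r) V i).le (w' i) :=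
    coef_injective p M a (haff q i) (Finsupp.ext fun k => congrFun (h k) i)
  have := congrArg (res (N p a M).presheaf (ProperFin.inter_preCov (gP p r) V i).ge) h'
  simp only [res_res, res_self] at this
  exact this

lemma exists_coefC [Finite ι] (k q : ℕ) (z : Coch p M V q)
    (hz : z ∈ ideal a ^ k • (⊤ : Submodule A (Coch p M V q))) :
    ∃ w, coefC p M V a haff k q w = z ∧ ∀ j, j ≠ k → coefC p M V a haff j q w = 0 := by
  choose w hw using fun i => exists_coef_single p M a (haff q i) k (z i) ((mem_smul_top_iff p M V _ _).1 hz i)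
  have e : ∀ i, res (N p a M).presheaf (ProperFin.inter_preCov (gP p r) V i).le
      (res (N p a M).presheaf (ProperFin.inter_preCov (gP p r) V i).ge (w i)) = w i := fun i => by
    rw [res_res, res_self]
  refine ⟨fun i => res (N p a M).presheaf (ProperFin.inter_preCov (gP p r) V i).ge (w i), funext fun i => ?_,
    fun j hj => funext fun i => ?_⟩
  · show coef p M a (haff q i) (res (N p a M).presheaf _ (res (N p a M).presheaf _ (w i))) k = _
    rw [e]
    exact (DFunLike.congr_fun (hw i) k).trans Finsupp.single_eq_same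
  · show coef p M a (haff q i) (res (N p a M).presheaf _ (res (N p a M).presheaf _ (w i))) j = _
    rw [e]
    exact (DFunLike.congr_fun (hw i) j).trans (Finsupp.single_eq_of_ne hj)

lemma res_smC (π : MvPolynomial (Fin r) A) (q : ℕ) (w : NCoch p M V a q) (i : Fin (q + 1) → ι) :
    res (N p a M).presheaf (ProperFin.inter_preCov (gP p r) V i).le (smC p M V a π q w i) =
      glob p (gP p r ⁻¹ᵁ inter V i) π • (show Γ(N p a M, gP p r ⁻¹ᵁ inter V i) from
        res (N p a M).presheaf (ProperFin.inter_preCov (gP p r) V i).le (w i)) := by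
  refine ((N p a M).val.map_smul (homOfLE (ProperFin.inter_preCov (gP p r) V i).le).op _ _).trans ?_
  refine congrArg (· • _) ?_
  exact res_φV (Coh.toGlobal (pP p r)) (ProperFin.inter_preCov (gP p r) V i).le π

lemma coefC_C (b : A) (k q : ℕ) (w : NCoch p M V a q) :
    coefC p M V a haff k q (smC p M V a (MvPolynomial.C b) q w) = b • coefC p M V a haff k q w := by
  funext i
  show toSec (Coh.toGlobal p) (coef p M a (haff q i) (res (N p a M).presheaf _ (smC p M V a _ q w i)) k) = _
  rw [res_smC, gP_app_φV, coef_const, Finsupp.mapRange_apply]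
  rfl

lemma coefC_X_succ (i₀ : Fin r) (k q : ℕ) (w : NCoch p M V a q) :
    coefC p M V a haff (k + 1) q (smC p M V a (MvPolynomial.X i₀) q w) = a i₀ • coefC p M V a haff k q w := by
  funext i
  show toSec (Coh.toGlobal p) (coef p M a (haff q i) (res (N p a M).presheaf _ (smC p M V a _ q w i)) (k + 1)) = _
  rw [res_smC, coef_X, Finsupp.mapDomain_apply (fun x y h => Nat.succ_injective h), Finsupp.mapRange_apply]
  rfl

lemma coefC_X_zero (i₀ : Fin r) (q : ℕ) (w : NCoch p M V a q) :
    coefC p M V a haff 0 q (smC p M V a (MvPolynomial.X i₀) q w) = 0 := by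
  funext i
  show toSec (Coh.toGlobal p) (coef p M a (haff q i) (res (N p a M).presheaf _ (smC p M V a _ q w i)) 0) = _
  rw [res_smC, coef_X, Finsupp.mapDomain_notin_range _ _ (by simp)]
  rfl

lemma smC_mul (π π' : MvPolynomial (Fin r) A) (q : ℕ) (w : NCoch p M V a q) :
    smC p M V a (π * π') q w = smC p M V a π q (smC p M V a π' q w) := by
  funext i
  show (Coh.smulAb (N p a M) (Coh.toGlobal (pP p r) (π * π'))).hom.app _ (w i) =
    (Coh.smulAb (N p a M) (Coh.toGlobal (pP p r) π)).hom.app _
      ((Coh.smulAb (N p a M) (Coh.toGlobal (pP p r) π')).hom.app _ (w i))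
  rw [map_mul, Coh.smulAb_mul]
  rfl

lemma smC_add (π π' : MvPolynomial (Fin r) A) (q : ℕ) (w : NCoch p M V a q) :
    smC p M V a (π + π') q w = smC p M V a π q w + smC p M V a π' q w := by
  funext i
  show (Coh.smulAb (N p a M) (Coh.toGlobal (pP p r) (π + π'))).hom.app _ (w i) = _
  rw [map_add, Coh.smulAb_add]
  rfl

/-- The combinations of the coefficients of degree at most `k`. -/
def comb (k q : ℕ) (w : NCoch p M V a q) : Submodule A (Coch p M V q) :=
  ⨆ j, ⨆ (_ : j ≤ k), ideal a ^ (k - j) • Submodule.span A {coefC p M V a haff j q w}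

lemma coefC_smC (π : MvPolynomial (Fin r) A) (k q : ℕ) (w : NCoch p M V a q) :
    coefC p M V a haff k q (smC p M V a π q w) ∈ comb p M V a haff k q w := by
  induction π using MvPolynomial.induction_on generalizing w with
  | C b =>
    rw [coefC_C]
    refine Submodule.mem_iSup_of_mem k (Submodule.mem_iSup_of_mem le_rfl ?_)
    rw [Nat.sub_self, pow_zero, Ideal.one_eq_top, Submodule.top_smul]
    exact Submodule.smul_mem _ _ (Submodule.mem_span_singleton_self _)
  | add x y hx hy =>
    rw [smC_add, map_add]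
    exact add_mem (hx w) (hy w)
  | mul_X x i₀ hx =>
    rw [smC_mul]
    refine (?_ : comb p M V a haff k q (smC p M V a (MvPolynomial.X i₀) q w) ≤ comb p M V a haff k q w) (hx _)
    refine iSup₂_le fun j hj => ?_
    cases j with
    | zero =>
      rw [coefC_X_zero, Submodule.span_zero_singleton, Submodule.smul_bot]
      exact bot_le
    | succ j =>
      refine le_trans ?_ (le_iSup₂_of_le j (by omega) le_rfl)
      rw [coefC_X_succ, show k - j = k - (j + 1) + 1 by omega, pow_succ, Submodule.mul_smul]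
      refine Submodule.smul_mono le_rfl ((Submodule.span_singleton_le_iff_mem _ _).2 ?_)
      exact Submodule.smul_mem_smul (Ideal.subset_span ⟨i₀, rfl⟩) (Submodule.mem_span_singleton_self _)

end Cochains

end Rees

theorem exists_bound {α : Type*} [Finite α] {β : α → Type*} [∀ x, Zero (β x)] (f : ∀ x, ℕ →₀ β x) :
    ∃ D, ∀ x j, D < j → f x j = 0 := by
  obtain ⟨D, hD⟩ := Finite.exists_le fun x => (f x).support.sup id
  exact ⟨D, fun x j hj => Finsupp.notMem_support_iff.1 fun h =>
    hj.not_ge ((Finset.le_sup (f := id) h).trans (hD x))⟩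

open Rees in
/-- The Rees module of Čech cohomology is finite. -/
theorem exists_rees_generators [IsNoetherianRing A] [IsProper p] (hM : Coh.IsCoh M) [Finite ι]
    (hcov : (⊤ : X.Opens) ≤ iSup V) (haff : ∀ (m : ℕ) (i : Fin (m + 1) → ι), IsAffineOpen (inter V i))
    (I : Ideal A) (q : ℕ) :
    ∃ (m : ℕ) (deg : Fin m → ℕ) (g : Fin m → Coch p M V q),
      (∀ l, dL p M V q (g l) = 0 ∧ g l ∈ I ^ deg l • (⊤ : Submodule A (Coch p M V q))) ∧
        ∀ (k : ℕ) (z : Coch p M V q), dL p M V q z = 0 → z ∈ I ^ k • (⊤ : Submodule A (Coch p M V q)) →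
          z ∈ (⨆ l, ⨆ (_ : deg l ≤ k), I ^ (k - deg l) • Submodule.span A {g l}) ⊔ bdry p M V I q k := by
  classical
  haveI := hM.1
  cases nonempty_fintype ι
  obtain ⟨r, a, ha⟩ := Submodule.fg_iff_exists_fin_generating_family.1 (IsNoetherian.noetherian I)
  have hI : ideal a = I := ha
  subst hI
  haveI : IsProper (pP p r) := inferInstance
  haveI : IsNoetherian (XP p r) := by
    haveI : IsLocallyNoetherian (XP p r) := LocallyOfFiniteType.isLocallyNoetherian (pP p r)
    haveI : CompactSpace (XP p r) := QuasiCompact.compactSpace_of_compactSpace (pP p r)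
    constructor
  have hN := isCoh_N p a M hM
  haveI := hN.1
  have hfin := ProperFin.allFin_of_isCoh (pP p r) (N p a M) hN q
  letI := Module.compHom (Coh.HH (XP p r) (N p a M) q) (Coh.toGlobal (pP p r))
  haveI : Module.Finite (MvPolynomial (Fin r) A) (Coh.HH (XP p r) (N p a M) q) := hfin
  have hac : Acyclic (ProperFin.preCov (gP p r) V) (Coh.toAb (N p a M)) :=
    acyclic_of_affine _ _ fun n i => by
      rw [← ProperFin.inter_preCov]
      exact (haff n i).preimage (gP p r)
  have hcovP : (⊤ : (XP p r).Opens) ≤ iSup (ProperFin.preCov (gP p r) V) := fun x _ => by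
    obtain ⟨b, hb⟩ := Opens.mem_iSup.1 (hcov (show gP p r x ∈ (⊤ : X.Opens) from trivial))
    exact Opens.mem_iSup.2 ⟨b, hb⟩
  obtain ⟨Φ, hΦs, hΦk, hΦn⟩ := hasComparisonNat (ProperFin.preCov (gP p r) V) hcovP hac q
  let e := HHEquiv (N p a M) q
  obtain ⟨n, x, hx⟩ := Module.Finite.exists_fin (R := MvPolynomial (Fin r) A)
    (M := Coh.HH (XP p r) (N p a M) q)
  choose w hw using fun l => hΦs (e (x l))
  -- a bound for the degrees
  obtain ⟨D, hD⟩ : ∃ D : ℕ, ∀ l j, D < j → coefC p M V a haff j q (w l).1 = 0 := by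
    obtain ⟨D, hD⟩ := exists_bound (f := fun li : Fin n × (Fin (q + 1) → ι) =>
      coef p M a (haff q li.2) (res (N p a M).presheaf (ProperFin.inter_preCov (gP p r) V li.2).le
        ((w li.1).1 li.2)))
    exact ⟨D, fun l j hj => funext fun i => hD (l, i) j hj⟩
  let E := (Fintype.equivFin (Fin n × Fin (D + 1))).symm
  let g : Fin (Fintype.card (Fin n × Fin (D + 1))) → Coch p M V q := fun l =>
    coefC p M V a haff (E l).2 q (w (E l).1).1
  refine ⟨_, fun l => (E l).2, g, fun l => ⟨?_, coefC_mem p M V a haff _ q _⟩, fun k z hz hzI => ?_⟩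
  · rw [← coefC_cdiff, show cdiff _ _ q (w (E l).1).1 = 0 from (w (E l).1).2, map_zero]
  let G : ℕ → Submodule A (Coch p M V q) := fun k =>
    ⨆ l, ⨆ (_ : ((E l).2 : ℕ) ≤ k), ideal a ^ (k - (E l).2) • Submodule.span A {g l}
  have hcomb : ∀ y, y ∈ Submodule.span (MvPolynomial (Fin r) A) (Set.range x) →
      ∃ w' : Zc (ProperFin.preCov (gP p r) V) (Coh.toAb (N p a M)).obj q, Φ w' = e y ∧
        ∀ k, coefC p M V a haff k q w'.1 ∈ G k := by
    intro y hy
    induction hy using Submodule.span_induction with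
    | mem y hy =>
      obtain ⟨l, rfl⟩ := hy
      refine ⟨w l, hw l, fun k => ?_⟩
      by_cases hk : D < k
      · rw [hD l k hk]; exact zero_mem _
      · refine Submodule.mem_iSup_of_mem (E.symm (l, ⟨k, by omega⟩)) (Submodule.mem_iSup_of_mem (by simp) ?_)
        rw [Equiv.apply_symm_apply, Nat.sub_self, pow_zero, Ideal.one_eq_top, Submodule.top_smul]
        refine Submodule.subset_span ?_
        simp [g]
    | zero => exact ⟨0, by rw [map_zero, map_zero], fun k => by simp⟩
    | add y y' _ _ hy hy' =>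
      obtain ⟨w₁, h₁, h₁'⟩ := hy
      obtain ⟨w₂, h₂, h₂'⟩ := hy'
      exact ⟨w₁ + w₂, by rw [map_add, map_add, h₁, h₂], fun k => by
        rw [AddSubgroup.coe_add, map_add]; exact add_mem (h₁' k) (h₂' k)⟩
    | smul π y _ hy =>
      obtain ⟨w₁, h₁, h₁'⟩ := hy
      refine ⟨⟨smC p M V a π q w₁.1, ccMap_mem_Zc _ _ w₁⟩, ?_, fun k => ?_⟩
      · refine (hΦn (Coh.smulAb (N p a M) (Coh.toGlobal (pP p r) π)) w₁ ⟨_, ccMap_mem_Zc _ _ w₁⟩ rfl).trans ?_
        rw [h₁]
        exact (HEquiv_map (Coh.smulAb (N p a M) (Coh.toGlobal (pP p r) π)) q y).symm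
      · refine (?_ : comb p M V a haff k q w₁.1 ≤ G k) (coefC_smC p M V a haff π k q w₁.1)
        refine iSup₂_le fun j hj => ?_
        refine (Submodule.smul_mono le_rfl ((Submodule.span_singleton_le_iff_mem _ _).2 (h₁' j))).trans ?_
        rw [Submodule.smul_iSup]
        refine iSup_le fun l => ?_
        rw [Submodule.smul_iSup]
        refine iSup_le fun hl => ?_
        refine le_iSup₂_of_le l (hl.trans hj) ?_
        rw [← Submodule.mul_smul, ← pow_add, show k - j + (j - (E l).2) = k - (E l).2 by omega]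
  obtain ⟨w₀, hw₀, hw₀'⟩ := exists_coefC p M V a haff k q z hzI
  have hw₀c : w₀ ∈ Zc (ProperFin.preCov (gP p r) V) (Coh.toAb (N p a M)).obj q := by
    show cdiff _ _ q w₀ = 0
    refine coefC_ext p M V a haff (q + 1) _ _ fun j => ?_
    rw [coefC_cdiff, map_zero]
    by_cases hj : j = k
    · rw [hj, hw₀, hz]
    · rw [hw₀' j hj, map_zero]
  obtain ⟨w', hw', hG⟩ := hcomb (e.symm (Φ ⟨w₀, hw₀c⟩)) (hx ▸ Submodule.mem_top)
  rw [AddEquiv.apply_symm_apply] at hw'
  have hdiff := (hΦk (⟨w₀, hw₀c⟩ - w')).1 (by rw [map_sub, hw', sub_self])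
  rw [show z = coefC p M V a haff k q w'.1 + coefC p M V a haff k q (w₀ - w'.1) by
    rw [← map_add, add_sub_cancel, hw₀]]
  refine Submodule.add_mem_sup (hG k) ?_
  cases q with
  | zero =>
    rw [show w₀ - w'.1 = 0 from hdiff, map_zero]
    exact zero_mem _
  | succ q =>
    obtain ⟨b, hb⟩ := hdiff
    rw [show w₀ - w'.1 = cdiff _ _ q b from hb.symm, coefC_cdiff]
    exact Submodule.mem_map_of_mem (coefC_mem p M V a haff k q b)

end Groth.Agent.FormalLib
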